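import Cfsg.Agent.Lib.JankoUnique.Weak.Facts
import Mathlib

/-!
# An involution whose commuting conjugates generate `Z₂ × A₅`: first properties
-/

set_option autoImplicit false
set_option linter.unusedSectionVars false

namespace Cfsg.Agent.Lib.JankoUnique.Weak

open Cfsg.Agent.Lib.JankoOrder (Cen2A5 cz)
open Subgroup

universe u

theorem invMap_spec {L : Fin 8 → Fin 8} (hL : Function.Injective L) (i : Fin 8) : L (invMap L i) = i := by
  obtain ⟨j, hj⟩ := Finite.surjective_of_injective hL i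
  unfold invMap
  cases h : (List.finRange 8).find? fun j => L j == i with
  | none =>
    have := List.find?_eq_none.mp h j (List.mem_finRange j)
    simp [hj] at this
  | some a => simpa using List.find?_some h

theorem injB_iff {L : Fin 8 → Fin 8} : injB L = true ↔ Function.Injective L := by
  simp only [injB, List.all_eq_true, List.mem_finRange, forall_const, Bool.or_eq_true, bne_iff_ne,
    beq_iff_eq]
  exact ⟨fun h i j e => (h i j).resolve_left fun hne => hne e, fun h i j => by
    by_cases e : L i = L j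
    · exact Or.inr (h e)
    · exact Or.inl e⟩

theorem eqMap_iff {p p' : Fin 8 → Fin 8} : eqMap p p' = true ↔ p = p' := by
  simp [eqMap, funext_iff]

/-- An embedded `Z₂ × A₅` containing every conjugate of its central involution commuting with it,
all of whose involutions are such conjugates. -/
structure WData (G : Type u) [Group G] where
  hom : Cen2A5 →* G
  inj : Function.Injective hom
  fus : ∀ k : Cen2A5, k * k = 1 → k ≠ 1 → IsConj (hom cz) (hom k)
  weak : ∀ x : G, IsConj (hom cz) x → x * hom cz = hom cz * x → ∃ k, hom k = x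

variable {G : Type u} [Group G]

namespace WData

variable (D : WData G)

/-- The central involution. -/
abbrev t : G := D.hom cz

theorem orderOf_t : orderOf D.t = 2 := by
  rw [WData.t, orderOf_injective D.hom D.inj]
  exact orderOf_eq_prime (hp := ⟨Nat.prime_two⟩) (by decide +kernel) (by decide +kernel)

theorem comm_t (k : Cen2A5) : D.hom k * D.t = D.t * D.hom k := by
  rw [← map_mul, ← map_mul, JankoOrder.cz_central]

theorem sig_ne_one {i : Fin 8} (hi : i ≠ 0) : sig i ≠ (1 : Cen2A5) := fun e =>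
  hi (sig_injective i 0 (e.trans sig_zero.1.symm))

theorem sig_sq (i : Fin 8) : sig i * sig i = (1 : Cen2A5) := by
  rw [sig_mul, show addI i i = 0 from (by decide : ∀ j : Fin 8, addI j j = 0) i, sig_zero.1]

theorem sig_comm (i j : Fin 8) : sig i * sig j = sig j * sig i := by
  rw [sig_mul, sig_mul, show addI i j = addI j i from (by decide +kernel : ∀ a b : Fin 8, addI a b = addI b a) i j]

theorem isConj_sig {i : Fin 8} (hi : i ≠ 0) : IsConj D.t (D.hom (sig i)) :=
  D.fus _ (sig_sq i) (sig_ne_one hi)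

theorem mem_range_conj {c : G} (hc : c * D.t = D.t * c) {k : Cen2A5} (hk : IsConj D.t (D.hom k)) :
    ∃ k', D.hom k' = c * D.hom k * c⁻¹ := by
  refine D.weak _ (hk.trans (isConj_iff.mpr ⟨c, rfl⟩)) ?_
  have hct : Commute c D.t := hc
  exact ((hct.mul_left (D.comm_t k)).mul_left hct.inv_left).eq

theorem gens_top : closure ({gA, gB, gC} : Set Cen2A5) = ⊤ := by
  set K := closure ({gA, gB, gC} : Set Cen2A5) with hK
  have hA : gA ∈ K := Subgroup.subset_closure (by simp)
  have hB : gB ∈ K := Subgroup.subset_closure (by simp)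
  have hC : gC ∈ K := Subgroup.subset_closure (by simp)
  have hz : cz ∈ K := by
    rw [show cz = (gA * gB * gC) ^ 5 by decide +kernel]
    exact pow_mem (mul_mem (mul_mem hA hB) hC) 5
  have hsig : ∀ i, sig i ∈ K := by
    intro i
    fin_cases i
    exacts [K.one_mem, hA, hC, mul_mem hA hC, hz, mul_mem hA hz, mul_mem hC hz, mul_mem (mul_mem hA hC) hz]
  have hX : gX ∈ K := mul_mem (mul_mem (mul_mem (mul_mem (mul_mem hB hA) hB) hA) hC) hB
  have h3 : 3 ∣ Nat.card K := by
    rw [← orderOf_eq_prime (hp := ⟨Nat.prime_three⟩) gX_order.1 gX_order.2]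
    exact K.orderOf_dvd_natCard hX
  have h5 : 5 ∣ Nat.card K := by
    have h := K.orderOf_dvd_natCard (mul_mem hA hB)
    rwa [orderOf_eq_prime (hp := ⟨Nat.prime_five⟩) gAB_order.1 gAB_order.2] at h
  have h8 : 8 ∣ Nat.card K := by
    let S : Subgroup Cen2A5 :=
      { carrier := Set.range sig
        one_mem' := ⟨0, sig_zero.1⟩
        mul_mem' := fun ⟨i, hi⟩ ⟨j, hj⟩ => ⟨addI i j, by rw [← sig_mul, hi, hj]⟩
        inv_mem' := fun {x} ⟨i, hi⟩ => ⟨i, by
          rw [← hi]; exact (inv_eq_of_mul_eq_one_right (sig_sq i)).symm⟩ }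
    have hS : Nat.card S = 8 := by
      show Nat.card (Set.range sig) = 8
      rw [Nat.card_range_of_injective fun i j => sig_injective i j, Nat.card_eq_fintype_card,
        Fintype.card_fin]
    rw [← hS]
    exact Subgroup.card_dvd_of_le (fun x ⟨i, hi⟩ => hi ▸ hsig i)
  have h15 : 15 ∣ Nat.card K := Nat.Coprime.mul_dvd_of_dvd_of_dvd (by norm_num) h3 h5
  have hd : Nat.card K ∣ 120 := by
    have := K.card_subgroup_dvd_card
    rwa [Nat.card_eq_fintype_card (α := Cen2A5), JankoOrder.cen_card] at this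
  exact Subgroup.eq_top_of_card_eq K (by
    rw [Nat.card_eq_fintype_card (α := Cen2A5), JankoOrder.cen_card]
    exact Nat.dvd_antisymm hd (Nat.Coprime.mul_dvd_of_dvd_of_dvd (by norm_num : Nat.Coprime 8 15) h8 h15))

theorem conj_gens : IsConj D.t (D.hom gA) ∧ IsConj D.t (D.hom gB) ∧ IsConj D.t (D.hom gC) := by
  obtain ⟨a1, a2, c1, c2, -, -, b2, -⟩ := gens_facts
  exact ⟨D.fus _ a1 a2, D.fus _ core_rels.1 b2, D.fus _ c1 c2⟩

/-- Conjugation by an element centralising the involution preserves the image. -/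
theorem range_normal {c : G} (hc : c * D.t = D.t * c) (k : Cen2A5) :
    ∃ k', D.hom k' = c * D.hom k * c⁻¹ := by
  let K : Subgroup Cen2A5 :=
    (D.hom.range.comap (MulAut.conj c).toMonoidHom).comap D.hom
  have hmem : ∀ g, g ∈ K ↔ ∃ k', D.hom k' = c * D.hom g * c⁻¹ := fun g => Iff.rfl
  obtain ⟨hA, hB, hC⟩ := D.conj_gens
  have h : closure ({gA, gB, gC} : Set Cen2A5) ≤ K := by
    rw [closure_le]
    rintro g (rfl | rfl | rfl)
    exacts [(hmem _).mpr (D.mem_range_conj hc hA), (hmem _).mpr (D.mem_range_conj hc hB),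
      (hmem _).mpr (D.mem_range_conj hc hC)]
  rw [gens_top] at h
  exact (hmem k).mp (h (mem_top k))

/-- The image lies in every normal subgroup containing the involution. -/
theorem hom_mem {N : Subgroup G} (hN : N.Normal) (ht : D.t ∈ N) (k : Cen2A5) : D.hom k ∈ N := by
  obtain ⟨hA, hB, hC⟩ := D.conj_gens
  have hm : ∀ {g : Cen2A5}, IsConj D.t (D.hom g) → D.hom g ∈ N := fun hg => by
    obtain ⟨a, ha⟩ := isConj_iff.mp hg
    rw [← ha]; exact hN.conj_mem _ ht a
  have h : closure ({gA, gB, gC} : Set Cen2A5) ≤ N.comap D.hom := by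
    rw [closure_le]
    rintro g (rfl | rfl | rfl)
    exacts [hm hA, hm hB, hm hC]
  rw [gens_top] at h
  exact h (mem_top k)

/-- Centralising the subgroup of order eight. -/
def Cent (c : G) : Prop := ∀ i : Fin 8, Commute c (D.hom (sig i))

/-- Lying in the subgroup of order eight. -/
def InE (g : G) : Prop := ∃ i : Fin 8, g = D.hom (sig i)

/-- Inducing a given map on the subgroup of order eight. -/
def Act (n : G) (p : Fin 8 → Fin 8) : Prop :=
  ∀ i : Fin 8, n * D.hom (sig i) * n⁻¹ = D.hom (sig (p i))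

theorem Cent.comm_t {c : G} (hc : D.Cent c) : c * D.t = D.t * c := by
  have := hc 4
  rw [sig_zero.2.2.2.2] at this
  exact this.eq

/-- An element centralising the subgroup of order eight is, up to that subgroup, centralising the image. -/
theorem exists_adjust {c : G} (hc : D.Cent c) :
    ∃ i : Fin 8, ∀ k, Commute ((D.hom (sig i))⁻¹ * c) (D.hom k) := by
  obtain ⟨z0, z1, z2, z3, z4⟩ := sig_zero
  obtain ⟨b, hb⟩ := D.range_normal (Cent.comm_t D hc) gB
  have hA : c * D.hom gA * c⁻¹ = D.hom gA := by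
    have := hc 1
    rw [z1] at this
    rw [this.eq, mul_inv_cancel_right]
  have hC : c * D.hom gC * c⁻¹ = D.hom gC := by
    have := hc 2
    rw [z2] at this
    rw [this.eq, mul_inv_cancel_right]
  let φ : G →* G := (MulAut.conj c).toMonoidHom
  have hφ : ∀ g, φ g = c * g * c⁻¹ := fun g => rfl
  obtain ⟨r1, r2, r3⟩ := core_rels
  obtain ⟨i, hi⟩ := aut_cases b
    (D.inj (by rw [map_mul, hb, ← hφ, ← map_mul, ← map_mul, r1, map_one, map_one]))
    (D.inj (by
      rw [map_pow, map_mul, hb, show D.hom gA = φ (D.hom gA) from hA.symm, ← hφ, ← map_mul, ← map_mul,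
        ← map_pow, ← map_pow, r2, map_one, map_one]))
    (D.inj (by
      rw [map_pow, map_mul, hb, show D.hom gC = φ (D.hom gC) from hC.symm, ← hφ, ← map_mul, ← map_mul,
        ← map_pow, ← map_pow, r3, map_one, map_one]))
  refine ⟨i, fun k => ?_⟩
  set d := (D.hom (sig i))⁻¹ * c with hd
  let K : Subgroup Cen2A5 := (centralizer ({d} : Set G)).comap D.hom
  have hmem : ∀ g, g ∈ K ↔ Commute d (D.hom g) := fun g =>
    ⟨fun h => (mem_centralizer_singleton_iff.mp h).symm, fun h => mem_centralizer_singleton_iff.mpr h.symm⟩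
  have hc' : ∀ j : Fin 8, Commute d (D.hom (sig j)) := fun j => by
    refine Commute.mul_left ?_ (hc j)
    exact ((show Commute (sig i) (sig j) from sig_comm i j).map D.hom).inv_left
  have h : closure ({gA, gB, gC} : Set Cen2A5) ≤ K := by
    rw [closure_le]
    rintro g (rfl | rfl | rfl)
    · exact (hmem _).mpr (z1 ▸ hc' 1)
    · refine (hmem _).mpr ?_
      show d * D.hom gB = D.hom gB * d
      refine mul_inv_eq_iff_eq_mul.mp ?_
      calc d * D.hom gB * d⁻¹ = (D.hom (sig i))⁻¹ * (c * D.hom gB * c⁻¹) * D.hom (sig i) := by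
            rw [hd]; group
        _ = D.hom gB := by rw [← hb, ← hi, map_mul, map_mul, map_inv]; group
    · exact (hmem _).mpr (z2 ▸ hc' 2)
  rw [gens_top] at h
  exact (hmem k).mp (h (mem_top k))

theorem Act.mul {m n : G} {p p' : Fin 8 → Fin 8} (hm : D.Act m p) (hn : D.Act n p') :
    D.Act (m * n) (p ∘ p') := fun i => by
  rw [show m * n * D.hom (sig i) * (m * n)⁻¹ = m * (n * D.hom (sig i) * n⁻¹) * m⁻¹ by group, hn, hm]
  rfl

theorem Act.one : D.Act (1 : G) id := fun i => by simp

theorem Act.pow {n : G} {p : Fin 8 → Fin 8} (hn : D.Act n p) : ∀ k : ℕ, D.Act (n ^ k) (p^[k])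
  | 0 => by rw [pow_zero]; exact Act.one D
  | k + 1 => by
    rw [pow_succ, Function.iterate_succ]
    exact Act.mul D (Act.pow hn k) hn

theorem Act.unique {n : G} {p p' : Fin 8 → Fin 8} (h : D.Act n p) (h' : D.Act n p') : p = p' :=
  funext fun i => sig_injective _ _ (D.inj ((h i).symm.trans (h' i)))

theorem Act.injective {n : G} {p : Fin 8 → Fin 8} (h : D.Act n p) : Function.Injective p := fun i j e => by
  have hh : n * D.hom (sig i) * n⁻¹ = n * D.hom (sig j) * n⁻¹ := by rw [h, h, e]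
  exact sig_injective _ _ (D.inj (mul_left_cancel (mul_right_cancel hh)))

theorem Act.inv {n : G} {p : Fin 8 → Fin 8} (h : D.Act n p) : D.Act n⁻¹ (invMap p) := fun i => by
  have h1 := h (invMap p i)
  rw [invMap_spec (Act.injective D h)] at h1
  rw [← h1]; group

theorem Act.map_zero {n : G} {p : Fin 8 → Fin 8} (h : D.Act n p) : p 0 = 0 := by
  refine sig_injective _ _ (D.inj ?_)
  rw [← h 0, sig_zero.1, map_one]
  group

theorem Act.linear {n : G} {p : Fin 8 → Fin 8} (h : D.Act n p) : p = linI (p 1) (p 2) (p 4) := by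
  have hadd : ∀ a b : Fin 8, p (addI a b) = addI (p a) (p b) := fun a b => by
    refine sig_injective _ _ (D.inj ?_)
    rw [← h, ← sig_mul, ← sig_mul, map_mul, map_mul, ← h, ← h]
    group
  funext i
  conv_lhs => rw [linI_split i]
  unfold linI
  rw [hadd, hadd, apply_ite p, apply_ite p, apply_ite p, Act.map_zero D h]

theorem act_gX : D.Act (D.hom gX) actX := fun i => by
  rw [← map_inv, ← map_mul, ← map_mul, sig_conj_X]

theorem act_sig (j : Fin 8) : D.Act (D.hom (sig j)) id := fun i => by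
  rw [← map_inv, ← map_mul, ← map_mul, sig_comm j i, mul_inv_cancel_right]
  rfl

theorem act_cent {c : G} (hc : D.Cent c) : D.Act c id := fun i => by
  rw [(hc i).eq, mul_inv_cancel_right]; rfl

theorem cent_of_act {c : G} (hc : D.Act c id) : D.Cent c := fun i => mul_inv_eq_iff_eq_mul.mp (hc i)

/-- An element normalising the subgroup of order eight and moving the involution to a prescribed place. -/
theorem exists_move {i₀ : Fin 8} (hi₀ : i₀ = 1 ∨ i₀ = 5) :
    ∃ (n : G) (p : Fin 8 → Fin 8), D.Act n p ∧ p 4 = i₀ := by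
  obtain ⟨z0, z1, z2, z3, z4⟩ := sig_zero
  have hi0 : i₀ ≠ 0 := by rcases hi₀ with rfl | rfl <;> decide
  obtain ⟨w, hw⟩ := isConj_iff.mp (D.isConj_sig hi0)
  have hwi : w⁻¹ * D.hom (sig i₀) * w = D.t := by rw [← hw]; group
  have key : ∀ j : Fin 8, j ≠ 0 → ∃ k, D.hom k = w⁻¹ * D.hom (sig j) * w := fun j hj => by
    refine D.weak _ ((D.isConj_sig hj).trans (isConj_iff.mpr ⟨w⁻¹, by rw [inv_inv]⟩)) ?_
    show w⁻¹ * D.hom (sig j) * w * D.t = D.t * (w⁻¹ * D.hom (sig j) * w)
    rw [← hwi]
    calc w⁻¹ * D.hom (sig j) * w * (w⁻¹ * D.hom (sig i₀) * w)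
        = w⁻¹ * (D.hom (sig j) * D.hom (sig i₀)) * w := by group
      _ = w⁻¹ * (D.hom (sig i₀) * D.hom (sig j)) * w := by rw [← map_mul, ← map_mul, sig_comm]
      _ = _ := by group
  -- conjugation by `w⁻¹` on the subgroup, as a homomorphism
  have hP : ∀ j : Fin 8, ∃ k, D.hom k = w⁻¹ * D.hom (sig j) * w := fun j => by
    by_cases hj : j = 0
    · exact ⟨1, by rw [hj, z0]; simp⟩
    · exact key j hj
  choose P hPe using hP
  have hPinj : ∀ a b, P a = P b → a = b := fun a b e => by
    have h1 : w⁻¹ * D.hom (sig a) * w = w⁻¹ * D.hom (sig b) * w := by rw [← hPe, ← hPe, e]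
    exact sig_injective _ _ (D.inj (mul_left_cancel (mul_right_cancel h1)))
  have hPmul : ∀ a b, P (addI a b) = P a * P b := fun a b => D.inj (by
    rw [map_mul, hPe, hPe, hPe, ← sig_mul, map_mul]; group)
  have hP0 : P 0 = 1 := D.inj (by rw [hPe, z0]; simp)
  have hPi : P i₀ = cz := D.inj (by rw [hPe, hwi])
  have hd : ∀ a b : Fin 8, a ≠ b → P a ≠ P b := fun a b h e => h (hPinj a b e)
  have hbasis : i₀ ≠ 2 ∧ i₀ ≠ 4 ∧ addI i₀ 2 ≠ 4 ∧ ∀ a : Fin 8, ∃ x y z : Bool,
      a = addI (addI (if x then i₀ else 0) (if y then 2 else 0)) (if z then 4 else 0) := by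
    rcases hi₀ with rfl | rfl <;> decide +kernel
  obtain ⟨b1, b2, b3, bspan⟩ := hbasis
  have sq : ∀ a, P a * P a = 1 := fun a => by
    rw [← hPmul, show addI a a = 0 from (by decide : ∀ j : Fin 8, addI j j = 0) a, hP0]
  obtain ⟨k, ⟨i, hi⟩, j, hj⟩ := pair_conj (P 2) (sq 2) (fun e => hd 2 0 (by decide) (e.trans hP0.symm))
    (fun e => hd 2 i₀ b1.symm (e.trans hPi.symm)) (P 4) (sq 4)
    (fun e => hd 4 0 (by decide) (e.trans hP0.symm)) (fun e => hd 4 i₀ b2.symm (e.trans hPi.symm))
    (by rw [← hPmul, ← hPmul]; exact congrArg P (by decide +kernel))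
    (hd 4 2 (by decide)) (fun e => hd 4 (addI i₀ 2) b3.symm (by rw [hPmul, hPi]; exact e))
  set m := D.hom k * w⁻¹ with hm
  have step : ∀ a, m * D.hom (sig a) * m⁻¹ = D.hom (k * P a * k⁻¹) := fun a => by
    rw [map_mul, map_mul, map_inv, hPe, hm]; group
  let Q : Subgroup Cen2A5 :=
    { carrier := Set.range sig
      one_mem' := ⟨0, z0⟩
      mul_mem' := fun ⟨a, ha⟩ ⟨b, hb⟩ => ⟨addI a b, by rw [← sig_mul, ha, hb]⟩
      inv_mem' := fun {x} ⟨a, ha⟩ => ⟨a, by rw [← ha]; exact (inv_eq_of_mul_eq_one_right (sig_sq a)).symm⟩ }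
  have hQ : ∀ a, ∃ b, sig b = k * P a * k⁻¹ := by
    have h1 : k * P i₀ * k⁻¹ = sig 4 := by rw [hPi, JankoOrder.cz_central, mul_inv_cancel_right, z4]
    have hzero : k * P 0 * k⁻¹ ∈ Q := by rw [hP0]; simp
    have hite : ∀ (x : Bool) (a : Fin 8), k * P a * k⁻¹ ∈ Q →
        k * P (if x then a else 0) * k⁻¹ ∈ Q := fun x a ha => by
      cases x
      · exact hzero
      · exact ha
    intro a
    obtain ⟨x, y, z, rfl⟩ := bspan a
    refine (?_ : _ ∈ Q)
    have hsplit : ∀ a b, k * P (addI a b) * k⁻¹ = (k * P a * k⁻¹) * (k * P b * k⁻¹) := fun a b => by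
      rw [hPmul]; group
    rw [hsplit, hsplit]
    exact mul_mem (mul_mem (hite x i₀ ⟨4, h1.symm⟩) (hite y 2 ⟨i, hi.symm⟩)) (hite z 4 ⟨j, hj.symm⟩)
  choose q hq using hQ
  have hact : D.Act m q := fun a => by rw [step, hq]
  refine ⟨m⁻¹, invMap q, Act.inv D hact, ?_⟩
  apply Act.injective D hact
  rw [invMap_spec (Act.injective D hact)]
  refine (sig_injective _ _ ?_).symm
  rw [hq, hPi, JankoOrder.cz_central, mul_inv_cancel_right, z4]

end WData

end Cfsg.Agent.Lib.JankoUnique.Weak
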