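import Cfsg.Agent.Lib.JankoUnique.Model
import Mathlib

/-!
# Finite facts for the weak closure characterisation of the first Janko group
-/

set_option autoImplicit false
set_option maxRecDepth 100000

namespace Cfsg.Agent.Lib.JankoUnique.Weak

open Cfsg.Agent.Lib.JankoOrder (Cen2A5 cz)

/-- The inverse of an injective map of coordinates. -/
def invMap (L : Fin 8 → Fin 8) (i : Fin 8) : Fin 8 :=
  ((List.finRange 8).find? fun j => L j == i).getD 0

/-- Injectivity as a Boolean. -/
def injB (L : Fin 8 → Fin 8) : Bool :=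
  (List.finRange 8).all fun i => (List.finRange 8).all fun j => (L i != L j) || (i == j)

/-- The composite of the letters of a word. -/
def evalMap (f : Fin 3 → Fin 8 → Fin 8) : List (Fin 3) → Fin 8 → Fin 8
  | [], i => i
  | a :: w, i => f a (evalMap f w i)

/-- Equality of maps of coordinates as a Boolean. -/
def eqMap (p p' : Fin 8 → Fin 8) : Bool := (List.finRange 8).all fun i => p i == p' i

/-- A seven-cycle normalised by `actX`. -/
def goodB (p : Fin 8 → Fin 8) : Bool :=
  eqMap (p^[7]) id && (p 4 != 4) && (p^[3] 4 != 4) &&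
    (eqMap (fun i => actX (p i)) (fun i => p^[2] (actX i)) ||
      eqMap (fun i => actX (p i)) (fun i => p^[4] (actX i)))

/-- The conjugate of `actX` by a map. -/
def conjMap (L : Fin 8 → Fin 8) (i : Fin 8) : Fin 8 := L (actX (invMap L i))

/-- The words giving seven-cycles. -/
def sevenWords : List (List (Fin 3)) :=
  [[0, 1], [0, 0, 1], [0, 2], [0, 0, 2], [2, 0, 1, 2], [1, 0, 2, 1], [0, 1, 2, 1], [1, 1, 0, 2],
    [1, 0, 2], [1, 0, 2, 2], [2, 0, 1], [1, 0, 0, 1, 0, 1]]

/-- The three letters. -/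
def letters (L K : Fin 8 → Fin 8) : Fin 3 → Fin 8 → Fin 8
  | 0 => actX
  | 1 => conjMap L
  | 2 => conjMap K

/-- Evaluate a coordinate before passing it on. -/
def forceI (i : Fin 8) (k : Fin 8 → Bool) : Bool :=
  match i.val with
  | 0 => k 0
  | 1 => k 1
  | 2 => k 2
  | 3 => k 3
  | 4 => k 4
  | 5 => k 5
  | 6 => k 6
  | _ => k 7

/-- Evaluate a map before passing it on. -/
def tabI (L : Fin 8 → Fin 8) (k : (Fin 8 → Fin 8) → Bool) : Bool :=
  forceI (L 0) fun a0 => forceI (L 1) fun a1 => forceI (L 2) fun a2 => forceI (L 3) fun a3 =>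
    forceI (L 4) fun a4 => forceI (L 5) fun a5 => forceI (L 6) fun a6 => forceI (L 7) fun a7 =>
      k fun i => [a0, a1, a2, a3, a4, a5, a6, a7].getD i.val 0

theorem forceI_eq (i : Fin 8) (k : Fin 8 → Bool) : forceI i k = k i := by
  fin_cases i <;> rfl

theorem tabI_eq (L : Fin 8 → Fin 8) (k : (Fin 8 → Fin 8) → Bool) : tabI L k = k L := by
  unfold tabI
  simp only [forceI_eq]
  congr 1
  funext i
  fin_cases i <;> rfl

/-- The three letters, tabulated. -/
def lettersTab (A B : Fin 8 → Fin 8) : Fin 3 → Fin 8 → Fin 8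
  | 0 => actX
  | 1 => A
  | 2 => B

theorem seven_word_tab : ∀ q r : Fin 8, injB (linI q r 1) = true →
    tabI (conjMap (linI q r 1)) (fun A => (List.finRange 8).all fun q' => (List.finRange 8).all fun r' =>
      !injB (linI q' r' 5) || tabI (conjMap (linI q' r' 5)) (fun B =>
        sevenWords.any fun w => tabI (evalMap (lettersTab A B) w) goodB)) = true := by
  decide +kernel

theorem exists_seven_word : ∀ q r q' r' : Fin 8, injB (linI q r 1) = true → injB (linI q' r' 5) = true →
    sevenWords.any (fun w => goodB (evalMap (letters (linI q r 1) (linI q' r' 5)) w)) = true := by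
  intro q r q' r' h h'
  have H := seven_word_tab q r h
  rw [tabI_eq, List.all_eq_true] at H
  have H' := H q' (List.mem_finRange q')
  rw [List.all_eq_true] at H'
  have H'' := H' r' (List.mem_finRange r')
  rw [h', Bool.not_true, Bool.false_or, tabI_eq, List.any_eq_true] at H''
  obtain ⟨w, hw, hg⟩ := H''
  rw [tabI_eq] at hg
  refine List.any_eq_true.mpr ⟨w, hw, ?_⟩
  rw [← hg, show letters (linI q r 1) (linI q' r' 5) =
    lettersTab (conjMap (linI q r 1)) (conjMap (linI q' r' 5)) from funext fun a => by fin_cases a <;> rfl]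

/-- The four-group inside the derived subgroup is preserved. -/
def presV (p : Fin 8 → Fin 8) : Bool :=
  [p 3, p 5, p 6].all fun i => i == 3 || i == 5 || i == 6

/-- The two letters. -/
def lettersTwo (Y S : Fin 8 → Fin 8) : Fin 3 → Fin 8 → Fin 8
  | 0 => Y
  | _ => S

/-- The words giving a bad stabiliser element. -/
def badWords : List (List (Fin 3)) :=
  [[0, 0, 0, 1, 0], [0, 1, 0, 0, 0], [0, 0, 1, 0, 0, 0], [0, 0, 0, 1, 0, 0]]

theorem stab_cases : ∀ q r : Fin 8, injB (linI q r 4) = true → presV (linI q r 4) = true →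
    eqMap (linI q r 4) id = true ∨ eqMap (linI q r 4) actX = true ∨
      eqMap (linI q r 4) (actX^[2]) = true ∨
      ∀ q' r' u' : Fin 8, goodB (linI q' r' u') = true →
        badWords.any (fun w => (evalMap (lettersTwo (linI q' r' u') (linI q r 4)) w 4 == 4) &&
          !presV (evalMap (lettersTwo (linI q' r' u') (linI q r 4)) w)) = true := by
  decide +kernel

theorem good_orbit : ∀ q r u : Fin 8, goodB (linI q r u) = true →
    (∀ i : Fin 8, i = 0 ∨ ∃ j : Fin 7, (linI q r u)^[j.val] 4 = i) ∧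
    ∀ i : Fin 8, linI q r u i = i → i = 0 := by
  decide +kernel

theorem sig_fixed : ∀ i : Fin 8, sig i * gX = gX * sig i → i = 0 ∨ i = 4 := by decide +kernel

set_option synthInstance.maxSize 4096 in
theorem aut_cases : ∀ b : Cen2A5, b * b = 1 → (gA * b) ^ 5 = 1 → (b * gC) ^ 3 = 1 →
    ∃ i : Fin 8, sig i * gB * (sig i)⁻¹ = b := by decide +kernel

theorem core_rels : gB * gB = (1 : Cen2A5) ∧ (gA * gB) ^ 5 = 1 ∧ (gB * gC) ^ 3 = 1 := by decide +kernel

set_option synthInstance.maxSize 4096 in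
theorem invol_conj_sig : ∀ k : Cen2A5, k * k = 1 → k ≠ 1 →
    ∃ g : Cen2A5, ∃ i : Fin 8, g * k * g⁻¹ = sig i := by decide +kernel

set_option synthInstance.maxSize 4096 in
theorem sig_commutator : ∀ i : Fin 8, (i = 3 ∨ i = 5 ∨ i = 6) →
    ∃ a b : Cen2A5, a * b * a⁻¹ * b⁻¹ = sig i := by decide +kernel

theorem sig_fst : ∀ i : Fin 8, (sig i).1 = 1 → i = 0 ∨ i = 3 ∨ i = 5 ∨ i = 6 := by decide +kernel

set_option synthInstance.maxSize 4096 in
theorem gens_facts : gA * gA = (1 : Cen2A5) ∧ gA ≠ 1 ∧ gC * gC = (1 : Cen2A5) ∧ gC ≠ 1 ∧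
    cz * cz = (1 : Cen2A5) ∧ cz ≠ 1 ∧ gB ≠ 1 ∧ gA ≠ cz ∧ gA * gC ≠ 1 ∧ gA * cz ≠ 1 ∧
    sig 5 = gA * cz := by decide +kernel

theorem linI_split : ∀ i : Fin 8, i = linI 1 2 4 i := by decide +kernel

end Cfsg.Agent.Lib.JankoUnique.Weak
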