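import Cfsg.Agent.Lib.JankoUnique.OrderHyp.Main
import Cfsg.Agent.Lib.JankoOne.Orders
import Cfsg.Agent.Lib.JankoOne.Simple
import Mathlib

/-!
# Facts about a subgroup isomorphic to the first Janko group
-/

set_option autoImplicit false
set_option linter.unusedSectionVars false
set_option linter.style.haveILetI false

namespace Cfsg.Agent.Lib.JankoUnique.Weak

open Subgroup

universe u

/-- An involutive map of a finite set of odd size into itself has a fixed point. -/
theorem exists_fixed_of_odd {α : Type u} [Finite α] (S : Set α) (hS : Odd S.ncard) (f : α → α)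
    (hfS : ∀ x ∈ S, f x ∈ S) (hf : ∀ x ∈ S, f (f x) = x) : ∃ x ∈ S, f x = x := by
  classical
  by_contra hno
  push Not at hno
  haveI := Fintype.ofFinite α
  have h0 : (∑ _x ∈ S.toFinset, (1 : ZMod 2)) = 0 :=
    Finset.sum_involution (fun x _ => f x) (fun _ _ => CharTwo.add_self_eq_zero 1)
      (fun x hx _ => hno x (Set.mem_toFinset.mp hx))
      (fun x hx => Set.mem_toFinset.mpr (hfS x (Set.mem_toFinset.mp hx)))
      (fun x hx => hf x (Set.mem_toFinset.mp hx))
  rw [Finset.sum_const, nsmul_one, ← Set.ncard_eq_toFinset_card'] at h0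
  rw [(ZMod.natCast_eq_one_iff_odd).mpr hS] at h0
  exact one_ne_zero h0

variable {G : Type u} [Group G] [Finite G] {L : Subgroup G}

theorem j1_card (h : Cfsg.Spor.IsoJ1 L) : Nat.card L = 175560 := by
  obtain ⟨e⟩ := h
  rw [Nat.card_congr e.toEquiv, JankoOne.card_janko]

theorem j1_simple (h : Cfsg.Spor.IsoJ1 L) : IsSimpleGroup L := by
  obtain ⟨e⟩ := h
  haveI := JankoOne.isSimpleGroup_janko
  exact e.isSimpleGroup

theorem j1_isConj (h : Cfsg.Spor.IsoJ1 L) {a b : G} (ha : a ∈ L) (hb : b ∈ L) (ha2 : orderOf a = 2)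
    (hb2 : orderOf b = 2) : ∃ m ∈ L, m * a * m⁻¹ = b := by
  haveI := j1_simple h
  obtain ⟨m, hm⟩ := isConj_iff.mp (OrderHyp.isConj_involutions (j1_card h) (v := (⟨a, ha⟩ : L))
    (w := ⟨b, hb⟩) (by rw [Subgroup.orderOf_mk]; exact ha2) (by rw [Subgroup.orderOf_mk]; exact hb2))
  exact ⟨m, m.2, congrArg Subtype.val hm⟩

/-- The number of involutions. -/
theorem j1_ncard_invol (h : Cfsg.Spor.IsoJ1 L) {a : G} (ha : a ∈ L) (ha2 : orderOf a = 2) :
    {x : G | x ∈ L ∧ orderOf x = 2}.ncard = 1463 := by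
  haveI := j1_simple h
  have hc := j1_card h
  have ha' : orderOf (⟨a, ha⟩ : L) = 2 := by rw [Subgroup.orderOf_mk]; exact ha2
  obtain ⟨e⟩ := OrderHyp.centralizer_iso hc ha'
  have h1 := Involution.card_isConj_mul_card_centralizer (⟨a, ha⟩ : L)
  rw [hc, Nat.card_congr e.toEquiv,
    show Nat.card (Multiplicative (ZMod 2) × alternatingGroup (Fin 5)) = 120 by
      rw [Nat.card_eq_fintype_card]; exact JankoOrder.cen_card] at h1
  rw [← Nat.card_coe_set_eq]
  have e2 : {y : L // IsConj (⟨a, ha⟩ : L) y} ≃ {x : G | x ∈ L ∧ orderOf x = 2} :=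
    { toFun := fun y => ⟨(y.1 : G), y.1.2, by
        rw [Subgroup.orderOf_coe, Involution.isConj_orderOf y.2]; exact ha'⟩
      invFun := fun x => ⟨⟨x.1, x.2.1⟩, OrderHyp.isConj_involutions hc ha'
        (by rw [Subgroup.orderOf_mk]; exact x.2.2)⟩
      left_inv := fun y => rfl
      right_inv := fun x => rfl }
  rw [← Nat.card_congr e2]
  omega

/-- A subgroup of odd order has at most 361 elements. -/
theorem j1_odd_card_le (h : Cfsg.Spor.IsoJ1 L) (R : Subgroup G) (hR : R ≤ L) (hodd : Odd (Nat.card R)) :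
    Nat.card R ≤ 361 := by
  have hc := j1_card h
  have hdvd : Nat.card R ∣ 21945 := by
    have h1 : Nat.card R ∣ 8 * 21945 := (card_dvd_of_le hR).trans (by rw [hc])
    exact (Nat.Coprime.pow_right 3 (Nat.coprime_two_right.mpr hodd)).dvd_of_dvd_mul_left h1
  haveI : IsZGroup R := IsZGroup.of_squarefree (Squarefree.squarefree_of_dvd hdvd (by
    decide +kernel))
  have h19 : ∀ x : R, orderOf x ≤ 19 := by
    intro x
    obtain ⟨e⟩ := h
    obtain ⟨n, hn, hdn⟩ := JankoOne.exists_pow_eq_one (e ⟨x, hR x.2⟩).2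
    have hx : orderOf x = orderOf ((e ⟨x, hR x.2⟩ : ↥Cfsg.Spor.J1) : GL (Fin 7) (ZMod 11)) := by
      simp only [Subgroup.orderOf_coe, e.orderOf_eq, Subgroup.orderOf_mk]
    rw [hx]
    refine (Nat.le_of_dvd ?_ hdn).trans ?_ <;>
      simp only [List.mem_cons, List.not_mem_nil, or_false] at hn <;> omega
  obtain ⟨a, ha⟩ := (IsZGroup.isCyclic_commutator (G := R)).exists_generator
  obtain ⟨b, hb⟩ := (inferInstance : IsCyclic (Abelianization R)).exists_generator
  obtain ⟨b', rfl⟩ := QuotientGroup.mk'_surjective _ b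
  have h1 : Nat.card (commutator R) ≤ 19 := by
    rw [← orderOf_eq_card_of_forall_mem_zpowers ha, ← Subgroup.orderOf_coe]
    exact h19 _
  have h2 : Nat.card (R ⧸ commutator R) ≤ 19 := by
    exact le_of_eq_of_le (orderOf_eq_card_of_forall_mem_zpowers hb).symm
      ((Nat.le_of_dvd (orderOf_pos b') (orderOf_map_dvd _ b')).trans (h19 b'))
  calc Nat.card R = Nat.card (R ⧸ commutator R) * Nat.card (commutator R) :=
        card_eq_card_quotient_mul_card_subgroup _
    _ ≤ 19 * 19 := Nat.mul_le_mul h2 h1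

end Cfsg.Agent.Lib.JankoUnique.Weak
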