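import Cfsg.Agent.Lib.JankoUnique.Weak.Seven
import Cfsg.Agent.Lib.JankoUnique.Weak.Strong
import Cfsg.Agent.Lib.Bender14.RankOne
import Cfsg.Agent.Lib.Coprime.Generation
import Mathlib

/-!
# A Janko subgroup whose centraliser is nontrivial is impossible
-/

set_option autoImplicit false
set_option linter.unusedSectionVars false
set_option linter.style.haveILetI false

namespace Cfsg.Agent.Lib.JankoUnique.Weak

open Cfsg.Agent.Lib.JankoOrder (Cen2A5 cz)
open Subgroup

universe u

variable {G : Type u} [Group G] [Finite G]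

theorem gA_gB_ne : gA * gB ≠ (gB * gA : Cen2A5) := by decide +kernel

theorem commute_conj {a b : G} (h : Commute a b) (g : G) : Commute (g * a * g⁻¹) (g * b * g⁻¹) := by
  show g * a * g⁻¹ * (g * b * g⁻¹) = g * b * g⁻¹ * (g * a * g⁻¹)
  calc g * a * g⁻¹ * (g * b * g⁻¹) = g * (a * b) * g⁻¹ := by group
    _ = g * (b * a) * g⁻¹ := by rw [h.eq]
    _ = _ := by group

/-- The data together with a Janko subgroup centralised by `K₀`. -/
structure Local (M : Marked G) (L : Subgroup G) : Prop where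
  iso : Cfsg.Spor.IsoJ1 L
  range_le : ∀ k, M.hom k ∈ L
  commutes : ∀ c ∈ M.K₀, ∀ l ∈ L, Commute c l

namespace Local

variable {M : Marked G} {L : Subgroup G} (S : Local M L)
include S

theorem t_mem : M.toWData.t ∈ L := S.range_le cz

theorem K₀_le_normalizer {c : G} (hc : c ∈ M.K₀) : c ∈ normalizer (L : Set G) :=
  centralizer_le_normalizer _ (mem_centralizer_iff.mpr fun l hl => (S.commutes c hc l hl).eq.symm)

/-- The centraliser of the involution normalises the subgroup. -/
theorem mem_normalizer_of_commute {c : G} (hc : c * M.toWData.t = M.toWData.t * c) :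
    c ∈ normalizer (L : Set G) := by
  obtain ⟨k, d, hd, rfl⟩ := M.cent_cases hc
  exact mul_mem (le_normalizer (S.range_le k)) (S.K₀_le_normalizer hd)

theorem eq_one_of_mem {a : G} (ha : a ∈ L) (haK : a ∈ M.K₀) : a = 1 := by
  haveI := j1_simple S.iso
  have hac : (⟨a, ha⟩ : L) ∈ center L := Subgroup.mem_center_iff.mpr fun l =>
    Subtype.ext (S.commutes a haK l l.2).eq.symm
  rcases ((inferInstance : (center L).Normal).eq_bot_or_eq_top) with h | h
  · rw [h, mem_bot] at hac
    exact congrArg Subtype.val hac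
  · have h1 : (⟨M.hom gA, S.range_le gA⟩ : L) ∈ center L := h ▸ mem_top _
    have h2 := congrArg Subtype.val (Subgroup.mem_center_iff.mp h1 ⟨M.hom gB, S.range_le gB⟩)
    have h3 : gB * gA = (gA * gB : Cen2A5) := M.inj (by rw [map_mul, map_mul]; exact h2)
    exact absurd h3.symm gA_gB_ne

theorem eq_of_mul_eq {a a' k k' : G} (ha : a ∈ L) (ha' : a' ∈ L) (hk : k ∈ M.K₀) (hk' : k' ∈ M.K₀)
    (h : a * k = a' * k') : a = a' ∧ k = k' := by
  have h1 : a'⁻¹ * a = k' * k⁻¹ := by
    calc a'⁻¹ * a = a'⁻¹ * (a * k) * k⁻¹ := by group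
      _ = k' * k⁻¹ := by rw [h]; group
  have h2 := S.eq_one_of_mem (mul_mem (inv_mem ha') ha) (h1 ▸ mul_mem hk' (inv_mem hk))
  have e : a = a' := (inv_mul_eq_one.mp h2).symm
  exact ⟨e, mul_left_cancel (e ▸ h)⟩

/-- The normaliser is the product with `K₀`. -/
theorem decomp {h : G} (hh : h ∈ normalizer (L : Set G)) : ∃ m ∈ L, ∃ d ∈ M.K₀, h = m * d := by
  obtain ⟨m, hm, hmt⟩ := j1_isConj S.iso S.t_mem ((mem_normalizer_iff.mp hh _).mp S.t_mem)
    M.toWData.orderOf_t ((Involution.orderOf_conj_eq _ _).trans M.toWData.orderOf_t)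
  have hc : m⁻¹ * h * M.toWData.t = M.toWData.t * (m⁻¹ * h) := by
    calc m⁻¹ * h * M.toWData.t = m⁻¹ * (h * M.toWData.t * h⁻¹) * h := by group
      _ = m⁻¹ * (m * M.toWData.t * m⁻¹) * h := by rw [hmt]
      _ = M.toWData.t * (m⁻¹ * h) := by group
  obtain ⟨k, d, hd, he⟩ := M.cent_cases hc
  exact ⟨m * M.hom k, mul_mem hm (S.range_le k), d, hd, by rw [mul_assoc, ← he]; group⟩

/-- Two conjugate involutions of the subgroup are conjugate only inside the normaliser. -/
theorem mem_normalizer_of_conj {a g : G} (ha : a ∈ L) (ha2 : orderOf a = 2) (hg : g * a * g⁻¹ ∈ L) :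
    g ∈ normalizer (L : Set G) := by
  obtain ⟨m, hm, hma⟩ := j1_isConj S.iso S.t_mem ha M.toWData.orderOf_t ha2
  obtain ⟨m', hm', hma'⟩ := j1_isConj S.iso S.t_mem hg M.toWData.orderOf_t
    ((Involution.orderOf_conj_eq g a).trans ha2)
  have hc : m'⁻¹ * g * m * M.toWData.t = M.toWData.t * (m'⁻¹ * g * m) := by
    calc m'⁻¹ * g * m * M.toWData.t = m'⁻¹ * (g * (m * M.toWData.t * m⁻¹) * g⁻¹) * g * m := by group
      _ = m'⁻¹ * (m' * M.toWData.t * m'⁻¹) * g * m := by rw [hma, hma']
      _ = M.toWData.t * (m'⁻¹ * g * m) := by group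
  have := mul_mem (mul_mem (le_normalizer hm') (S.mem_normalizer_of_commute hc))
    (inv_mem (le_normalizer hm))
  rwa [show m' * (m'⁻¹ * g * m) * m⁻¹ = g by group] at this

theorem cent_le {a : G} (ha : a ∈ L) (ha2 : orderOf a = 2) {c : G} (hc : Commute c a) :
    c ∈ normalizer (L : Set G) :=
  S.mem_normalizer_of_conj ha ha2 (by rw [hc.eq, mul_inv_cancel_right]; exact ha)

/-- Conjugates of the involution in the normaliser lie in the subgroup. -/
theorem mem_of_isConj {v : G} (hv : IsConj M.toWData.t v) (hvN : v ∈ normalizer (L : Set G)) : v ∈ L := by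
  have hv2 : orderOf v = 2 := (Involution.isConj_orderOf hv).trans M.toWData.orderOf_t
  have hvv : v * v = 1 := Involution.mul_self_eq_one hv2
  have hodd : Odd {x : G | x ∈ L ∧ orderOf x = 2}.ncard := by
    rw [j1_ncard_invol S.iso S.t_mem M.toWData.orderOf_t]; decide
  obtain ⟨u, ⟨hu, hu2⟩, hfix⟩ := exists_fixed_of_odd _ hodd (fun x => v * x * v⁻¹)
    (fun x hx => ⟨(mem_normalizer_iff.mp hvN x).mp hx.1, (Involution.orderOf_conj_eq v x).trans hx.2⟩)
    (fun x _ => by
      rw [Involution.inv_eq_self hvv]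
      calc v * (v * x * v) * v = v * v * x * (v * v) := by group
        _ = x := by rw [hvv, one_mul, mul_one])
  obtain ⟨m, hm, hmu⟩ := j1_isConj S.iso hu S.t_mem hu2 M.toWData.orderOf_t
  have hc : Commute (m * v * m⁻¹) M.toWData.t :=
    hmu ▸ commute_conj (mul_inv_eq_iff_eq_mul.mp hfix : Commute v u) m
  obtain ⟨k, hk⟩ := M.weak _ (hv.trans (isConj_iff.mpr ⟨m, rfl⟩)) hc.eq
  have := mul_mem (mul_mem (inv_mem hm) (hk ▸ S.range_le k)) hm
  rwa [show m⁻¹ * (m * v * m⁻¹) * m = v by group] at this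

theorem isConj_of_mem {a : G} (ha : a ∈ L) (ha2 : orderOf a = 2) : IsConj M.toWData.t a := by
  obtain ⟨m, -, hm⟩ := j1_isConj S.iso S.t_mem ha M.toWData.orderOf_t ha2
  exact isConj_iff.mpr ⟨m, hm⟩

/-- An involution normalising two conjugate subgroups has its centraliser outside the normaliser. -/
theorem fix_absurd {g d : G} (hg : g ∉ normalizer (L : Set G)) (hdd : d * d = 1)
    (hdg : g⁻¹ * d * g ∈ normalizer (L : Set G))
    (hC : ∀ x, Commute x d → x ∈ normalizer (L : Set G)) : False := by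
  have hodd : Odd {x : G | x ∈ L ∧ orderOf x = 2}.ncard := by
    rw [j1_ncard_invol S.iso S.t_mem M.toWData.orderOf_t]; decide
  set e := g⁻¹ * d * g with he
  have hee : e * e = 1 := by
    rw [he]
    calc g⁻¹ * d * g * (g⁻¹ * d * g) = g⁻¹ * (d * d) * g := by group
      _ = 1 := by rw [hdd]; group
  obtain ⟨v, ⟨hv, hv2⟩, hfix⟩ := exists_fixed_of_odd _ hodd (fun x => e * x * e⁻¹)
    (fun x hx => ⟨(mem_normalizer_iff.mp hdg x).mp hx.1, (Involution.orderOf_conj_eq e x).trans hx.2⟩)
    (fun x _ => by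
      rw [Involution.inv_eq_self hee]
      calc e * (e * x * e) * e = e * e * x * (e * e) := by group
        _ = x := by rw [hee, one_mul, mul_one])
  have hc : Commute (g * v * g⁻¹) d := by
    have h := (commute_conj (mul_inv_eq_iff_eq_mul.mp hfix : Commute e v) g).symm
    rwa [show g * e * g⁻¹ = d by rw [he]; group] at h
  exact hg (S.mem_normalizer_of_conj hv hv2
    (S.mem_of_isConj ((S.isConj_of_mem hv hv2).trans (isConj_iff.mpr ⟨g, rfl⟩)) (hC _ hc)))

/-- The centraliser of an involution which is the product of one in the subgroup and one in `K₀`. -/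
theorem cent_mul_le {m k : G} (hm : m ∈ L) (hm2 : orderOf m = 2) (hk : k ∈ M.K₀) {x : G}
    (hx : Commute x (m * k)) : x ∈ normalizer (L : Set G) := by
  classical
  set C := centralizer ({m * k} : Set G) with hCdef
  have hmem : ∀ y, Commute y (m * k) → y ∈ C := fun y hy => mem_centralizer_singleton_iff.mpr hy.eq
  have hmk : Commute m k := (S.commutes k hk m hm).symm
  have hmC : m ∈ C := hmem m ((Commute.refl m).mul_right hmk)
  let mC : C := ⟨m, hmC⟩
  have hiso : Cfsg.IsIsolatedInvolution mC := by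
    refine ⟨(Subgroup.orderOf_mk m hmC).trans hm2, fun h hh => ?_⟩
    set m' : G := (h : G) * m * (h : G)⁻¹ with hm'
    have hcm : Commute m m' := congrArg Subtype.val hh.eq
    have hm'L : m' ∈ L := S.mem_of_isConj
      ((S.isConj_of_mem hm hm2).trans (isConj_iff.mpr ⟨(h : G), rfl⟩)) (S.cent_le hm hm2 hcm.symm)
    obtain ⟨a, ha, d, hd, had⟩ := S.decomp (S.mem_normalizer_of_conj hm hm2 hm'L)
    have hhc : (h : G) * (m * k) * (h : G)⁻¹ = m * k :=
      mul_inv_eq_iff_eq_mul.mpr (mem_centralizer_singleton_iff.mp h.2)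
    have h2 : (h : G) * k * (h : G)⁻¹ = d * k * d⁻¹ := by
      rw [had]
      calc a * d * k * (a * d)⁻¹ = a * (d * k * d⁻¹) * a⁻¹ := by group
        _ = d * k * d⁻¹ := by
          rw [← (S.commutes _ (mul_mem (mul_mem hd hk) (inv_mem hd)) a ha).eq, mul_inv_cancel_right]
    have h3 : m' * (d * k * d⁻¹) = m * k := by
      rw [← h2, hm', ← hhc]; group
    exact Subtype.ext (S.eq_of_mul_eq hm'L hm (mul_mem (mul_mem hd hk) (inv_mem hd)) hk h3).1
  obtain ⟨n, hn, hnm⟩ := j1_isConj S.iso S.t_mem hm M.toWData.orderOf_t hm2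
  set e := n * M.hom gA * n⁻¹ with he
  have heL : e ∈ L := mul_mem (mul_mem hn (S.range_le _)) (inv_mem hn)
  have hem : Commute e m := hnm ▸ commute_conj (M.toWData.comm_t gA) n
  obtain ⟨f1, f2, -, -, -, -, -, f5, -⟩ := gens_facts
  have hee : e * e = 1 := by
    rw [he]
    calc n * M.hom gA * n⁻¹ * (n * M.hom gA * n⁻¹) = n * (M.hom gA * M.hom gA) * n⁻¹ := by group
      _ = 1 := by rw [← map_mul, f1, map_one]; group
  have hmm : m * m = 1 := Involution.mul_self_eq_one hm2
  have heC : e ∈ C := hmem e (hem.mul_right (S.commutes k hk e heL).symm)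
  set O : Subgroup G := (Cfsg.oddCore ↥C).map C.subtype with hO
  have hOn : ∀ a ∈ C, ∀ o ∈ O, a * o * a⁻¹ ∈ O := by
    rintro a ha _ ⟨o, ho, rfl⟩
    exact ⟨_, (Cfsg.pPrimeCore_normal 2 ↥C).conj_mem o ho ⟨a, ha⟩, rfl⟩
  have hpairC : closure ({m, e} : Set G) ≤ C := (closure_le _).mpr (by
    rintro z (rfl | rfl); exacts [hmC, heC])
  have hpair : closure ({m, e} : Set G) ≤ normalizer (O : Set G) := fun a ha => by
    rw [mem_normalizer_iff]
    refine fun o => ⟨hOn a (hpairC ha) o, fun ho => ?_⟩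
    have := hOn a⁻¹ (inv_mem (hpairC ha)) _ ho
    rwa [show a⁻¹ * (a * o * a⁻¹) * a⁻¹⁻¹ = o by group] at this
  have hne : e ∉ zpowers m := by
    intro h
    obtain ⟨i, hi⟩ := mem_zpowers_iff.mp h
    have : e = 1 ∨ e = m := by
      rcases Int.even_or_odd i with ⟨j, rfl⟩ | ⟨j, rfl⟩
      · left; rw [← hi, zpow_add, ← (Commute.refl m).mul_zpow, hmm, one_zpow]
      · right
        rw [← hi, zpow_add, two_mul, zpow_add, ← (Commute.refl m).mul_zpow, hmm, one_zpow, one_mul,
          zpow_one]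
    rcases this with h1 | h1
    · exact f2 (M.inj (by rw [map_one]; exact conj_eq_one_iff.mp h1))
    · rw [he, ← hnm] at h1
      exact f5 (M.inj (mul_left_cancel (mul_right_cancel h1)))
  have hO2 : O ≤ normalizer (L : Set G) := by
    refine Coprime.le_of_pair Nat.prime_two (a := e) (b := m) ?_ (by rw [Set.pair_comm]; exact hpair)
      hem (by rw [pow_two, hee]) (by rw [pow_two, hmm]) (Involution.ne_one hm2) hne fun z hz hz1 => ?_
    · rw [hO, card_map_of_injective C.subtype_injective]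
      exact Nat.coprime_two_left.mpr PLayerBasic.oddCore_odd
    · rw [Set.pair_comm] at hz
      have hz2 : z ∈ L ∧ z * z = 1 ∧ Commute z m ∧ Commute z e := by
        clear hz1
        induction hz using Subgroup.closure_induction with
        | mem z hz =>
          rcases hz with rfl | rfl
          exacts [⟨hm, hmm, Commute.refl _, hem.symm⟩, ⟨heL, hee, hem, Commute.refl _⟩]
        | one => exact ⟨one_mem L, one_mul 1, Commute.one_left _, Commute.one_left _⟩
        | mul a b ha hb iha ihb =>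
          have hab : Commute a b := by
            have := hpairC ha
            refine Subgroup.closure_induction (p := fun b _ => Commute a b) ?_ (Commute.one_right a)
              (fun _ _ _ _ h h' => h.mul_right h') (fun _ _ h => h.inv_right) hb
            rintro b (rfl | rfl)
            exacts [iha.2.2.1, iha.2.2.2]
          refine ⟨mul_mem iha.1 ihb.1, ?_, iha.2.2.1.mul_left ihb.2.2.1, iha.2.2.2.mul_left ihb.2.2.2⟩
          calc a * b * (a * b) = a * (b * a) * b := by group
            _ = a * (a * b) * b := by rw [hab.eq]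
            _ = a * a * (b * b) := by group
            _ = 1 := by rw [iha.2.1, ihb.2.1, one_mul]
        | inv a ha iha =>
          exact ⟨inv_mem iha.1, by rw [← mul_inv_rev, iha.2.1, inv_one], iha.2.2.1.inv_left,
            iha.2.2.2.inv_left⟩
      intro o ho
      exact S.cent_le hz2.1 (Involution.orderOf_eq_two hz2.2.1 hz1)
        (mem_centralizer_singleton_iff.mp (Subgroup.mem_inf.mp ho).2)
  obtain ⟨y, hy, hyc⟩ := Bender14.RankOne.exists_oddCore_mul_commute hiso ⟨x, hmem x hx⟩
  have h1 : (y : G) * x ∈ normalizer (L : Set G) := S.cent_le hm hm2 (congrArg Subtype.val hyc)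
  have h2 : (y : G)⁻¹ ∈ normalizer (L : Set G) := inv_mem (hO2 ⟨y, hy, rfl⟩)
  have := mul_mem h2 h1
  rwa [show (y : G)⁻¹ * ((y : G) * x) = x by group] at this

/-- The normaliser is everything. -/
theorem normalizer_eq_top (hC : ∀ c ∈ M.K₀, c ≠ 1 → centralizer ({c} : Set G) ≤ normalizer (L : Set G)) :
    normalizer (L : Set G) = ⊤ := by
  classical
  by_contra hne
  set H := normalizer (L : Set G) with hH
  haveI := Fintype.ofFinite G
  set I : Set G := {x | x ∈ L ∧ orderOf x = 2} with hI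
  have hIc : Nat.card I = 1463 := by
    rw [Nat.card_coe_set_eq]; exact j1_ncard_invol S.iso S.t_mem M.toWData.orderOf_t
  set T : Set G := {u | IsConj M.toWData.t u} with hT
  -- each conjugate is a conjugate of an involution of `L` by a unique coset
  let Φ : (G ⧸ H) × I → T := fun q =>
    ⟨q.1.out * (q.2 : G) * q.1.out⁻¹,
      (S.isConj_of_mem q.2.2.1 q.2.2.2).trans (isConj_iff.mpr ⟨q.1.out, rfl⟩)⟩
  have hΦ : Function.Bijective Φ := by
    constructor
    · rintro ⟨q, x⟩ ⟨q', x'⟩ h
      have h' : q.out * (x : G) * q.out⁻¹ = q'.out * (x' : G) * q'.out⁻¹ := congrArg Subtype.val h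
      have h1 : q'.out⁻¹ * q.out * (x : G) * (q'.out⁻¹ * q.out)⁻¹ = (x' : G) := by
        calc q'.out⁻¹ * q.out * (x : G) * (q'.out⁻¹ * q.out)⁻¹
            = q'.out⁻¹ * (q.out * (x : G) * q.out⁻¹) * q'.out := by group
          _ = (x' : G) := by rw [h']; group
      have h2 : q'.out⁻¹ * q.out ∈ H := S.mem_normalizer_of_conj x.2.1 x.2.2 (h1 ▸ x'.2.1)
      have hq : q' = q := by
        have := QuotientGroup.eq.mpr h2
        rwa [QuotientGroup.out_eq', QuotientGroup.out_eq'] at this
      subst hq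
      exact Prod.ext rfl (Subtype.ext (mul_left_cancel (mul_right_cancel h')))
    · rintro ⟨u, hu⟩
      obtain ⟨g, rfl⟩ := isConj_iff.mp hu
      obtain ⟨h, hh⟩ := QuotientGroup.mk_out_eq_mul H g
      set q : G ⧸ H := QuotientGroup.mk g
      refine ⟨⟨q, ⟨(h : G)⁻¹ * M.toWData.t * (h : G)⁻¹⁻¹,
        (mem_normalizer_iff.mp (inv_mem h.2) _).mp S.t_mem,
        (Involution.orderOf_conj_eq _ _).trans M.toWData.orderOf_t⟩⟩, Subtype.ext ?_⟩
      show q.out * ((h : G)⁻¹ * M.toWData.t * (h : G)⁻¹⁻¹) * q.out⁻¹ = g * M.toWData.t * g⁻¹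
      rw [hh]; group
  have hTc : Nat.card T = Nat.card (G ⧸ H) * 1463 := by
    rw [← Nat.card_congr (Equiv.ofBijective Φ hΦ), Nat.card_prod, hIc]
  -- the conjugates outside the normaliser
  let A : Finset G := Finset.univ.filter fun u => IsConj M.toWData.t u ∧ u ∉ H
  let B : Finset (G ⧸ H) := Finset.univ.erase ((1 : G) : G ⧸ H)
  have hBne : B.Nonempty := by
    obtain ⟨g, hg⟩ : ∃ g : G, g ∉ H := by
      by_contra hall
      push Not at hall
      exact hne (eq_top_iff.mpr fun g _ => hall g)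
    refine ⟨(g : G ⧸ H), Finset.mem_erase.mpr ⟨fun e => hg ?_, Finset.mem_univ _⟩⟩
    have := QuotientGroup.eq.mp e
    simpa using this
  have hAB : B.card * 1463 ≤ A.card := by
    have h1 : Nat.card T = A.card + (Finset.univ.filter fun u : G => u ∈ I).card := by
      rw [Nat.card_coe_set_eq, ← Finset.card_union_of_disjoint, ← Set.ncard_coe_finset]
      · refine congrArg Set.ncard (Set.ext fun u => ?_)
        simp only [A, T, Set.mem_ofPred_eq, Finset.mem_coe, Finset.mem_union, Finset.mem_filter, Finset.mem_univ, true_and]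
        refine ⟨fun hu => ?_, fun h => h.elim And.left fun hu => S.isConj_of_mem hu.1 hu.2⟩
        by_cases huH : u ∈ H
        · exact Or.inr ⟨S.mem_of_isConj hu huH, (Involution.isConj_orderOf hu).trans M.toWData.orderOf_t⟩
        · exact Or.inl ⟨hu, huH⟩
      · rw [Finset.disjoint_left]
        intro u hu hu'
        simp only [A, Finset.mem_filter, Finset.mem_univ, true_and] at hu hu'
        exact hu.2 (le_normalizer hu'.1)
    have h2 : (Finset.univ.filter fun u : G => u ∈ I).card = 1463 := by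
      rw [← hIc, Nat.card_eq_fintype_card, Fintype.card_subtype]
    have h3 : B.card + 1 = Nat.card (G ⧸ H) := by
      rw [Finset.card_erase_add_one (Finset.mem_univ _), Finset.card_univ, Nat.card_eq_fintype_card]
    rw [hTc, h2, ← h3] at h1
    linarith
  obtain ⟨q, hq, hqc⟩ := Finset.exists_le_card_fiber_of_mul_le_card_of_maps_to
    (f := fun u : G => (u : G ⧸ H)) (s := A) (t := B) (fun u hu => by
      simp only [A, Finset.mem_filter, Finset.mem_univ, true_and] at hu
      refine Finset.mem_erase.mpr ⟨fun e => hu.2 ?_, Finset.mem_univ _⟩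
      have := QuotientGroup.eq.mp e
      simpa using this) hBne hAB
  set g := q.out with hgdef
  have hg : g ∉ H := fun h => by
    refine (Finset.mem_erase.mp hq).1 ?_
    rw [← QuotientGroup.out_eq' q, QuotientGroup.eq]
    simpa using h
  set U := A.filter fun u : G => ((u : G) : G ⧸ H) = q with hU
  have hUmem : ∀ u ∈ U, IsConj M.toWData.t u ∧ u ∉ H ∧ g⁻¹ * u ∈ H ∧ u * u = 1 := fun u hu => by
    simp only [U, A, Finset.mem_filter, Finset.mem_univ, true_and] at hu
    refine ⟨hu.1.1, hu.1.2, ?_, Involution.mul_self_eq_one ((Involution.isConj_orderOf hu.1.1).trans M.toWData.orderOf_t)⟩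
    rw [← QuotientGroup.eq, QuotientGroup.out_eq']
    exact hu.2.symm
  -- no involution of `K₀` normalises both
  have hK2 : ∀ (i : ℕ) (c : G), c ∈ M.K₀ → g⁻¹ * c * g ∈ H → c ^ 2 ^ i = 1 → c = 1 := by
    intro i
    induction i with
    | zero => intro c _ _ h; simpa using h
    | succ i ih =>
      intro c hc hcg h
      have h2 : c * c = 1 := ih (c * c) (mul_mem hc hc) (by
        rw [show g⁻¹ * (c * c) * g = g⁻¹ * c * g * (g⁻¹ * c * g) by group]; exact mul_mem hcg hcg)
        (by rw [← pow_two, ← pow_mul, ← pow_succ']; exact h)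
      by_contra hc1
      exact S.fix_absurd hg h2 hcg fun x hx => hC c hc hc1 (mem_centralizer_singleton_iff.mpr hx.eq)
  -- the components in `L` of the elements normalising both
  let R : Subgroup G :=
    { carrier := {m | m ∈ L ∧ ∃ k ∈ M.K₀, g⁻¹ * (m * k) * g ∈ H}
      one_mem' := ⟨one_mem L, 1, one_mem _, by simp⟩
      mul_mem' := by
        rintro m m' ⟨hm, k, hk, hkg⟩ ⟨hm', k', hk', hkg'⟩
        refine ⟨mul_mem hm hm', k * k', mul_mem hk hk', ?_⟩
        have h := mul_mem hkg hkg'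
        rwa [show g⁻¹ * (m * k) * g * (g⁻¹ * (m' * k') * g) = g⁻¹ * (m * (k * m') * k') * g by group,
          (S.commutes k hk m' hm').eq, show g⁻¹ * (m * (m' * k) * k') * g = g⁻¹ * (m * m' * (k * k')) * g by group] at h
      inv_mem' := by
        rintro m ⟨hm, k, hk, hkg⟩
        refine ⟨inv_mem hm, k⁻¹, inv_mem hk, ?_⟩
        have h := inv_mem hkg
        rwa [show (g⁻¹ * (m * k) * g)⁻¹ = g⁻¹ * (k⁻¹ * m⁻¹) * g by group,
          ((S.commutes k hk m hm).inv_inv).eq] at h }
  have hRodd : Odd (Nat.card R) := by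
    rw [← Nat.not_even_iff_odd, even_iff_two_dvd]
    intro h2
    haveI : Fact (Nat.Prime 2) := ⟨Nat.prime_two⟩
    obtain ⟨⟨m, hm, k, hk, hkg⟩, hm2⟩ := exists_prime_orderOf_dvd_card' (G := R) 2 h2
    replace hm2 : orderOf m = 2 := (orderOf_injective R.subtype R.subtype_injective _).trans hm2
    obtain ⟨i, o, ho, hio⟩ := Nat.exists_eq_two_pow_mul_odd (n := orderOf k) (orderOf_pos _).ne'
    have hmk : Commute m k := (S.commutes k hk m hm).symm
    have hmm : m * m = 1 := Involution.mul_self_eq_one hm2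
    have hmo : m ^ o = m := by
      obtain ⟨j, rfl⟩ := ho
      rw [pow_succ, pow_mul, pow_two, hmm, one_pow, one_mul]
    set k' := k ^ o with hk'
    have hk'K : k' ∈ M.K₀ := pow_mem hk o
    have hd : g⁻¹ * (m * k') * g ∈ H := by
      have := pow_mem hkg o
      rwa [show g⁻¹ * (m * k) * g = g⁻¹ * (m * k) * g⁻¹⁻¹ by rw [inv_inv], conj_pow, inv_inv,
        hmk.mul_pow, hmo] at this
    have hk'2 : k' * k' = 1 := by
      refine hK2 i _ (mul_mem hk'K hk'K) ?_ ?_
      · have := mul_mem hd hd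
        rwa [show g⁻¹ * (m * k') * g * (g⁻¹ * (m * k') * g) = g⁻¹ * (m * k' * (m * k')) * g by group,
          (hmk.pow_right o).symm.mul_mul_mul_comm, hmm, one_mul] at this
      · rw [← pow_two, hk', ← pow_mul, ← pow_mul,
          show o * (2 * 2 ^ i) = 2 ^ i * o * 2 by ring, pow_mul, ← hio, pow_orderOf_eq_one, one_pow]
    by_cases hk1 : k' = 1
    · rw [hk1, mul_one] at hd
      have hmL : g⁻¹ * m * g⁻¹⁻¹ ∈ L := by
        refine S.mem_of_isConj ((S.isConj_of_mem hm hm2).trans (isConj_iff.mpr ⟨g⁻¹, rfl⟩)) ?_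
        rw [inv_inv]; exact hd
      exact hg (inv_inv g ▸ inv_mem (S.mem_normalizer_of_conj hm hm2 hmL))
    · refine S.fix_absurd hg ?_ hd fun x hx => S.cent_mul_le hm hm2 hk'K hx
      rw [(hmk.pow_right o).symm.mul_mul_mul_comm, hmm, hk'2, one_mul]
  have hR361 := j1_odd_card_le S.iso R (fun m hm => hm.1) hRodd
  -- the injection
  have hUne : U.Nonempty := Finset.card_pos.mp (lt_of_lt_of_le (by norm_num : (0 : ℕ) < 1463) hqc)
  obtain ⟨u₀, hu₀⟩ := hUne
  obtain ⟨-, -, hu₀g, hu₀2⟩ := hUmem u₀ hu₀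
  have hpairs : ∀ u ∈ U, u₀ * u ∈ H ∧ g⁻¹ * (u₀ * u) * g ∈ H := by
    intro u hu
    obtain ⟨-, -, hug, hu2⟩ := hUmem u hu
    have e0 : u₀⁻¹ = u₀ := inv_eq_of_mul_eq_one_right hu₀2
    have e1 : u⁻¹ = u := inv_eq_of_mul_eq_one_right hu2
    constructor
    · have := mul_mem (inv_mem hu₀g) hug
      rwa [show (g⁻¹ * u₀)⁻¹ * (g⁻¹ * u) = u₀⁻¹ * u by group, e0] at this
    · have := mul_mem hu₀g (inv_mem hug)
      rwa [show g⁻¹ * u₀ * (g⁻¹ * u)⁻¹ = g⁻¹ * (u₀ * u⁻¹) * g by group, e1] at this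
  choose fm fmL fk fkK hfe using fun u : U => S.decomp (hpairs u u.2).1
  let F : U → R := fun u => ⟨fm u, fmL u, fk u, fkK u, hfe u ▸ (hpairs u u.2).2⟩
  have hF : Function.Injective F := by
    intro u u' h
    have hm : fm u = fm u' := congrArg Subtype.val h
    obtain ⟨huc, huH, -, hu2⟩ := hUmem u u.2
    obtain ⟨-, -, -, hu2'⟩ := hUmem u' u'.2
    have hcK : (u : G) * u' ∈ M.K₀ := by
      have e : (u : G) * u' = (fk u)⁻¹ * fk u' := by
        calc (u : G) * u' = (u₀ * u)⁻¹ * (u₀ * u') := by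
              rw [mul_inv_rev, inv_eq_of_mul_eq_one_right hu2]; group
          _ = (fm u * fk u)⁻¹ * (fm u * fk u') := by rw [← hfe, hm, ← hfe]
          _ = _ := by group
      rw [e]; exact mul_mem (inv_mem (fkK u)) (fkK u')
    by_contra hne'
    have hc1 : ((u : G) * u')⁻¹ ≠ 1 := fun e => hne' (Subtype.ext (by
      rw [inv_eq_one, mul_eq_one_iff_eq_inv, inv_eq_of_mul_eq_one_right hu2'] at e
      exact e))
    have hv : Commute ((u : G) * M.toWData.t * (u : G)⁻¹) ((u : G) * u')⁻¹ := by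
      have := commute_conj ((S.commutes _ hcK _ S.t_mem).symm) (u : G)
      rwa [show (u : G) * ((u : G) * u') * (u : G)⁻¹ = ((u : G) * u')⁻¹ by
        rw [mul_inv_rev, inv_eq_of_mul_eq_one_right hu2', inv_eq_of_mul_eq_one_right hu2,
          ← mul_assoc, hu2, one_mul]] at this
    have hvH := hC _ (inv_mem hcK) hc1 (mem_centralizer_singleton_iff.mpr hv.eq)
    exact huH (S.mem_normalizer_of_conj S.t_mem M.toWData.orderOf_t
      (S.mem_of_isConj (isConj_iff.mpr ⟨(u : G), rfl⟩) hvH))
  have := Nat.card_le_card_of_injective F hF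
  rw [Nat.card_eq_fintype_card, Fintype.card_coe] at this
  omega

end Local

end Cfsg.Agent.Lib.JankoUnique.Weak
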