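import Cfsg.Agent.Lib.JankoUnique.Weak.Local
import Cfsg.Agent.Lib.JankoUnique.Main
import Mathlib

/-!
# The normal closure of the involution is the first Janko group
-/

set_option autoImplicit false
set_option linter.unusedSectionVars false
set_option linter.style.haveILetI false

namespace Cfsg.Agent.Lib.JankoUnique.Weak

open Cfsg.Agent.Lib.JankoOrder (Cen2A5 cz)
open Subgroup

universe u

variable {G : Type u} [Group G] [Finite G]

set_option synthInstance.maxSize 4096 in
theorem odd_core_cases : ∀ k : Cen2A5, k ^ 15 = 1 → k ≠ 1 →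
    ∃ g : Cen2A5, (k * (g * (k * k) * g⁻¹)) ^ 15 ≠ 1 := by decide +kernel

set_option synthInstance.maxSize 4096 in
theorem center_facts : (∀ k : Cen2A5, k ^ 30 = 1) ∧
    ∀ k : Cen2A5, k * gA = gA * k → k * gB = gB * k → k * gC = gC * k → k = 1 ∨ k = cz := by
  decide +kernel

theorem four_facts : ∀ k ∈ ([1, gA, cz, gA * cz] : List Cen2A5), k⁻¹ ∈ ([1, gA, cz, gA * cz] : List Cen2A5) ∧
    ∀ l ∈ ([1, gA, cz, gA * cz] : List Cen2A5), k * l ∈ ([1, gA, cz, gA * cz] : List Cen2A5) := by
  decide +kernel

namespace WData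

variable (D : WData G)

/-- The class of the involution has odd size. -/
theorem odd_class : Odd {u : G | IsConj D.t u}.ncard := by
  classical
  haveI := Fintype.ofFinite G
  have htt : D.t * D.t = 1 := Involution.mul_self_eq_one D.orderOf_t
  set T := Finset.univ.filter fun u : G => IsConj D.t u with hT
  have h1 : {u : G | IsConj D.t u}.ncard = T.card := by
    rw [Set.ncard_eq_toFinset_card']
    congr 1
    ext u; simp [hT]
  rw [h1, ← ZMod.natCast_eq_one_iff_odd, Finset.card_eq_sum_ones, Nat.cast_sum,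
    ← Finset.sum_filter_add_sum_filter_not T (fun u => u * D.t = D.t * u)]
  have hzero : (∑ x ∈ T.filter (fun u => ¬ u * D.t = D.t * u), ((1 : ℕ) : ZMod 2)) = 0 := by
    refine Finset.sum_involution (fun x _ => D.t * x * D.t⁻¹)
      (fun x _ => by rw [Nat.cast_one]; exact CharTwo.add_self_eq_zero 1)
      (fun x hx _ h => (Finset.mem_filter.mp hx).2 (mul_inv_eq_iff_eq_mul.mp h).symm)
      (fun x hx => ?_) (fun x _ => ?_)
    · simp only [T, Finset.mem_filter, Finset.mem_univ, true_and] at hx ⊢
      refine ⟨hx.1.trans (isConj_iff.mpr ⟨D.t, rfl⟩), fun h => hx.2 ?_⟩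
      exact mul_left_cancel (a := D.t) (mul_right_cancel (b := D.t⁻¹) (by
        calc D.t * (x * D.t) * D.t⁻¹ = (D.t * x * D.t⁻¹) * D.t := by group
          _ = D.t * (D.t * x * D.t⁻¹) := h
          _ = D.t * (D.t * x) * D.t⁻¹ := by group))
    · rw [Involution.inv_eq_self htt]
      calc D.t * (D.t * x * D.t) * D.t = (D.t * D.t) * x * (D.t * D.t) := by group
        _ = x := by rw [htt, one_mul, mul_one]
  rw [hzero, add_zero]
  have himg : T.filter (fun u => u * D.t = D.t * u) =
      (Finset.univ.filter fun k : Cen2A5 => k * k = 1 ∧ k ≠ 1).image D.hom := by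
    ext u
    simp only [T, Finset.mem_filter, Finset.mem_univ, true_and, Finset.mem_image]
    constructor
    · rintro ⟨hu, hc⟩
      obtain ⟨k, rfl⟩ := D.weak u hu hc
      have h2 := (Involution.isConj_orderOf hu).trans D.orderOf_t
      exact ⟨k, ⟨D.inj (by rw [map_mul, map_one]; exact Involution.mul_self_eq_one h2),
        fun e => Involution.ne_one h2 (by rw [e, map_one])⟩, rfl⟩
    · rintro ⟨k, ⟨hk, hk1⟩, rfl⟩
      exact ⟨D.fus k hk hk1, D.comm_t k⟩
  rw [← Nat.cast_sum, ← Finset.card_eq_sum_ones, himg, Finset.card_image_of_injective _ D.inj,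
    JankoOrder.cen_card_involutions]
  decide

/-- The Sylow two-subgroups lie in involution centralisers. -/
theorem two_central : ∃ P : Sylow 2 G, D.t ∈ (P : Subgroup G) ∧ ∀ x ∈ (P : Subgroup G), x * D.t = D.t * x := by
  haveI : Fact (Nat.Prime 2) := ⟨Nat.prime_two⟩
  set C := centralizer ({D.t} : Set G) with hC
  have hCi : ¬ 2 ∣ C.index := by
    have h := Involution.card_isConj_mul_card_centralizer D.t
    rw [← C.index_mul_card] at h
    rw [← Nat.eq_of_mul_eq_mul_right Nat.card_pos h]
    have := D.odd_class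
    rw [← Nat.card_coe_set_eq] at this
    exact this.not_two_dvd_nat
  let tC : C := ⟨D.t, mem_centralizer_singleton_iff.mpr rfl⟩
  obtain ⟨Q, hQ⟩ := (IsPGroup.of_card (n := 1) (by
    rw [Nat.card_zpowers, ← Subgroup.orderOf_coe, pow_one]; exact D.orderOf_t) :
      IsPGroup 2 (zpowers tC)).exists_le_sylow
  have hP : IsPGroup 2 ((Q : Subgroup C).map C.subtype) := Q.2.map _
  have hPi : ¬ 2 ∣ ((Q : Subgroup C).map C.subtype).index := by
    rw [Subgroup.index_map_subtype]
    exact Nat.prime_two.not_dvd_mul Q.not_dvd_index hCi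
  refine ⟨hP.toSylow hPi, ⟨tC, hQ (mem_zpowers tC), rfl⟩, ?_⟩
  rintro _ ⟨x, -, rfl⟩
  exact mem_centralizer_singleton_iff.mp x.2

end WData

namespace Marked

variable (M : Marked G)

/-- The data inside a subgroup. -/
def restrict (H : Subgroup G) (hW : ∀ k, M.hom k ∈ H) (hy : M.y ∈ H) : WData H where
  hom := M.hom.codRestrict H hW
  inj := fun a b h => M.inj (congrArg Subtype.val h)
  fus := fun k hk hk1 => by
    obtain ⟨h, hh, he⟩ := M.conj_in hW hy hk hk1
    exact isConj_iff.mpr ⟨⟨h, hh⟩, Subtype.ext he⟩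
  weak := fun x hx hc => by
    obtain ⟨h, hh⟩ := isConj_iff.mp hx
    obtain ⟨k, hk⟩ := M.weak x (isConj_iff.mpr ⟨(h : G), congrArg Subtype.val hh⟩) (congrArg Subtype.val hc)
    exact ⟨k, Subtype.ext hk⟩

/-- The conclusion for a subgroup, pushed into the group. -/
theorem sub_janko (H : Subgroup G) (hW : ∀ k, M.hom k ∈ H) (hy : M.y ∈ H)
    (ih : ∀ D : WData H, Cfsg.Spor.IsoJ1 (normalClosure ({D.t} : Set H))) :
    ∃ L : Subgroup G, L ≤ H ∧ Cfsg.Spor.IsoJ1 L ∧ H ≤ normalizer (L : Set G) ∧ ∀ k, M.hom k ∈ L := by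
  set D := M.restrict H hW hy
  obtain ⟨e⟩ := ih D
  set N := normalClosure ({D.t} : Set H) with hN
  have hmem : ∀ k, M.hom k ∈ N.map H.subtype := fun k =>
    ⟨D.hom k, D.hom_mem normalClosure_normal (subset_normalClosure (Set.mem_singleton _)) k, rfl⟩
  refine ⟨N.map H.subtype, map_subtype_le N,
    ⟨(N.equivMapOfInjective _ H.subtype_injective).symm.trans e⟩, fun h hh => ?_, hmem⟩
  have key : ∀ h ∈ H, ∀ n ∈ N.map H.subtype, h * n * h⁻¹ ∈ N.map H.subtype := by
    rintro h hh _ ⟨n, hn, rfl⟩
    exact ⟨_, normalClosure_normal.conj_mem n hn ⟨h, hh⟩, rfl⟩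
  rw [mem_normalizer_iff]
  refine fun n => ⟨key h hh n, fun hn => ?_⟩
  have := key h⁻¹ (inv_mem hh) _ hn
  rwa [show h⁻¹ * (h * n * h⁻¹) * h⁻¹⁻¹ = n by group] at this

end Marked

/-- The case of a simple group. -/
theorem case_trivial (M : Marked G) (hN : normalClosure ({M.toWData.t} : Set G) = ⊤) (hK : M.K₀ = ⊥) :
    Cfsg.Spor.IsoJ1 G := by
  classical
  haveI : Fact (Nat.Prime 2) := ⟨Nat.prime_two⟩
  have hcent : ∀ c : G, c * M.toWData.t = M.toWData.t * c → ∃ k, M.hom k = c := fun c hc => by
    obtain ⟨k, d, hd, rfl⟩ := M.cent_cases hc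
    rw [hK, mem_bot] at hd
    exact ⟨k, by rw [hd, mul_one]⟩
  have heq : M.hom.range = centralizer ({M.toWData.t} : Set G) := by
    ext x
    exact ⟨fun ⟨k, hk⟩ => hk ▸ mem_centralizer_singleton_iff.mpr (M.toWData.comm_t k),
      fun hx => hcent x (mem_centralizer_singleton_iff.mp hx)⟩
  let e : centralizer ({M.toWData.t} : Set G) ≃* Cen2A5 :=
    (MulEquiv.subgroupCongr heq.symm).trans (M.hom.ofInjective M.inj).symm
  obtain ⟨P, htP, hPt⟩ := M.toWData.two_central
  -- no normal subgroup of odd order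
  have hodd : ∀ N : Subgroup G, N.Normal → Odd (Nat.card N) → N = ⊥ := by
    intro N hNn hNo
    have hCt : ∀ x ∈ N, x * M.toWData.t = M.toWData.t * x → x = 1 := by
      intro x hx hxt
      obtain ⟨k, rfl⟩ := hcent x hxt
      have h15 : ∀ l : Cen2A5, M.hom l ∈ N → l ^ 15 = 1 := fun l hl => by
        have h1 : orderOf (M.hom l) ∣ Nat.card N := Subgroup.orderOf_dvd_natCard _ hl
        rw [orderOf_injective M.hom M.inj] at h1
        have h2 : orderOf l ∣ 2 * 15 := orderOf_dvd_of_pow_eq_one (center_facts.1 l)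
        exact orderOf_dvd_iff_pow_eq_one.mp
          ((Nat.coprime_two_right.mpr (hNo.of_dvd_nat h1)).dvd_of_dvd_mul_left h2)
      by_contra hk
      obtain ⟨g, hg⟩ := odd_core_cases k (h15 k hx) fun e => hk (by rw [e, map_one])
      refine hg (h15 _ ?_)
      rw [map_mul, map_mul, map_mul, map_mul, map_inv]
      exact mul_mem hx (hNn.conj_mem _ (mul_mem hx hx) _)
    obtain ⟨f1, f2, -, -, f5, f6, -, f7, -, f8, -⟩ := gens_facts
    have hgAcz : gA * cz * (gA * cz) = (1 : Cen2A5) := by
      rw [show gA * cz * (gA * cz) = gA * (cz * gA) * cz by group, ← JankoOrder.cz_central gA,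
        show gA * (gA * cz) * cz = gA * gA * (cz * cz) by group, f1, f5, one_mul]
    have hC : ∀ k : Cen2A5, k * k = 1 → k ≠ 1 → ∀ x ∈ N, Commute x (M.hom k) → x = 1 := by
      intro k hk hk1 x hx hc
      obtain ⟨g, hg⟩ := isConj_iff.mp (M.fus k hk hk1)
      have h : Commute (g⁻¹ * x * g⁻¹⁻¹) M.toWData.t := by
        have := commute_conj hc g⁻¹
        rwa [show g⁻¹ * M.hom k * g⁻¹⁻¹ = M.toWData.t by rw [← hg]; group] at this
      exact conj_eq_one_iff.mp (hCt _ (hNn.conj_mem x hx g⁻¹) h.eq)
    refine le_bot_iff.mp (Coprime.le_of_pair Nat.prime_two (a := M.hom gA) (b := M.toWData.t)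
      (Nat.coprime_two_left.mpr hNo) (by rw [normalizer_eq_top]; exact le_top) (M.toWData.comm_t gA)
      (by rw [pow_two, ← map_mul, f1, map_one]) (by rw [pow_two, ← map_mul, f5, map_one])
      (Involution.ne_one M.toWData.orderOf_t) ?_ fun x hx hx1 => ?_)
    · intro h
      obtain ⟨i, hi⟩ := mem_zpowers_iff.mp h
      rcases Int.even_or_odd i with ⟨j, rfl⟩ | ⟨j, rfl⟩
      · exact f2 (M.inj (by
          rw [← hi, zpow_add, ← (Commute.refl _).mul_zpow, ← map_mul, f5, map_one, one_zpow]))
      · exact f7 (M.inj (by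
          rw [← hi, zpow_add, two_mul, zpow_add, ← (Commute.refl _).mul_zpow, ← map_mul, f5, map_one,
            one_zpow, one_mul, zpow_one]))
    · -- every element of the four group is the image of an involution
      have h4 : ∃ k : Cen2A5, k ∈ ([1, gA, cz, gA * cz] : List Cen2A5) ∧ M.hom k = x := by
        clear hx1
        induction hx using Subgroup.closure_induction with
        | mem x hx =>
          rcases hx with rfl | rfl
          exacts [⟨gA, by simp, rfl⟩, ⟨cz, by simp, rfl⟩]
        | one => exact ⟨1, by simp, map_one _⟩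
        | mul a b _ _ iha ihb =>
          obtain ⟨k, hk, rfl⟩ := iha
          obtain ⟨l, hl, rfl⟩ := ihb
          refine ⟨k * l, ?_, map_mul _ _ _⟩
          exact (four_facts k hk).2 l hl
        | inv a _ iha =>
          obtain ⟨k, hk, rfl⟩ := iha
          refine ⟨k⁻¹, ?_, map_inv _ _⟩
          exact (four_facts k hk).1
      obtain ⟨k, hk, rfl⟩ := h4
      simp only [List.mem_cons, List.not_mem_nil, or_false] at hk
      have hk2 : k * k = 1 ∧ k ≠ 1 := by
        rcases hk with rfl | rfl | rfl | rfl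
        exacts [absurd (map_one _) hx1, ⟨f1, f2⟩, ⟨f5, f6⟩, ⟨hgAcz, f8⟩]
      intro z hz
      exact mem_bot.mpr (hC k hk2.1 hk2.2 z (Subgroup.mem_inf.mp hz).1
        (mem_centralizer_singleton_iff.mp (Subgroup.mem_inf.mp hz).2))
  haveI : Nontrivial G := ⟨M.toWData.t, 1, Involution.ne_one M.toWData.orderOf_t⟩
  haveI : IsSimpleGroup G := ⟨fun N hNn => by
    by_cases h2 : 2 ∣ Nat.card N
    · right
      obtain ⟨⟨v, hv⟩, hvo⟩ := exists_prime_orderOf_dvd_card' (G := N) 2 h2
      rw [Subgroup.orderOf_mk] at hvo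
      have hp : IsPGroup 2 (zpowers v) := IsPGroup.of_card (n := 1) (by rw [Nat.card_zpowers, hvo, pow_one])
      obtain ⟨Q, hQ⟩ := hp.exists_le_sylow
      obtain ⟨g, hg⟩ := MulAction.exists_smul_eq G Q P
      have hgv : g * v * g⁻¹ ∈ (P : Subgroup G) := by
        rw [← hg, Sylow.coe_subgroup_smul]
        exact ⟨v, hQ (mem_zpowers v), rfl⟩
      obtain ⟨k, hk⟩ := hcent _ (hPt _ hgv)
      have hk2 : orderOf (M.hom k) = 2 := by rw [hk, Involution.orderOf_conj_eq]; exact hvo
      obtain ⟨a, ha⟩ := isConj_iff.mp (M.fus k (M.inj (by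
          rw [map_mul, map_one]; exact Involution.mul_self_eq_one hk2))
        fun e => Involution.ne_one hk2 (by rw [e, map_one]))
      have ht : M.toWData.t ∈ N := by
        have := hNn.conj_mem _ (hNn.conj_mem v hv g) a⁻¹
        rwa [← hk, ← ha, show a⁻¹ * (a * M.hom cz * a⁻¹) * a⁻¹⁻¹ = M.hom cz by group] at this
      refine eq_top_iff.mpr ?_
      rw [← hN]
      exact normalClosure_le_normal (Set.singleton_subset_iff.mpr ht)
    · exact Or.inl (hodd N hNn (Nat.not_even_iff_odd.mp (by rwa [even_iff_two_dvd])))⟩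
  exact JankoUnique.iso_of_hyp
    (JankoOrder.hyp_of_centralizer M.toWData.t ⟨M.toWData.orderOf_t, P, htP, hPt⟩ e) M.toWData.orderOf_t

/-- The case of a nontrivial centre is impossible. -/
theorem case_center (D : WData G) (hN : normalClosure ({D.t} : Set G) = ⊤) (hZ : center G ≠ ⊥)
    (ih : ∀ D' : WData (G ⧸ center G), Cfsg.Spor.IsoJ1 (normalClosure ({D'.t} : Set (G ⧸ center G)))) :
    False := by
  classical
  obtain ⟨f1, f2, f3, f4, -, -, -, f5, f6, -⟩ := gens_facts
  have hzW : ∀ k, D.hom k ∈ center G → k = 1 := by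
    intro k hk
    have hc : ∀ l, k * l = l * k := fun l => D.inj (by
      rw [map_mul, map_mul]; exact (Subgroup.mem_center_iff.mp hk _).symm)
    refine (center_facts.2 k (hc _) (hc _) (hc _)).resolve_right fun e => ?_
    obtain ⟨g, hg⟩ := isConj_iff.mp (D.fus gA f1 f2)
    rw [e] at hk
    exact f5 (D.inj (hg.symm.trans (mul_inv_eq_iff_eq_mul.mpr (Subgroup.mem_center_iff.mp hk g))))
  let π := QuotientGroup.mk' (center G)
  let D' : WData (G ⧸ center G) :=
    { hom := π.comp D.hom
      inj := (injective_iff_map_eq_one _).mpr fun k hk => hzW k ((QuotientGroup.eq_one_iff _).mp hk)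
      fus := fun k hk hk1 => (π.map_isConj (D.fus k hk hk1) :)
      weak := fun x hx hc => by
        obtain ⟨a, ha⟩ := isConj_iff.mp hx
        obtain ⟨g, rfl⟩ := QuotientGroup.mk'_surjective (center G) a
        set u := g * D.t * g⁻¹ with hu
        have hxu : π u = x := by rw [hu, map_mul, map_mul, map_inv]; exact ha
        set z := u * D.t * u⁻¹ * D.t⁻¹ with hz
        have hzc : z ∈ center G := by
          refine (QuotientGroup.eq_one_iff _).mp ?_
          show π z = 1
          rw [hz, map_mul, map_mul, map_mul, map_inv, map_inv, hxu]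
          calc x * π D.t * x⁻¹ * (π D.t)⁻¹ = π D.t * x * x⁻¹ * (π D.t)⁻¹ := by
                rw [show x * π D.t = π D.t * x from hc]
            _ = 1 := by group
        have hc1 : u * D.t * u⁻¹ * D.t = D.t * (u * D.t * u⁻¹) := by
          have : u * D.t * u⁻¹ = z * D.t := by rw [hz]; group
          rw [this]
          calc z * D.t * D.t = D.t * z * D.t := by rw [Subgroup.mem_center_iff.mp hzc D.t]
            _ = _ := by group
        obtain ⟨k, hk⟩ := D.weak (u * D.t * u⁻¹) (isConj_iff.mpr ⟨u, rfl⟩) hc1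
        have hz1 : z = 1 := by
          have h1 : D.hom (k * cz⁻¹) = z := by rw [map_mul, map_inv, hk, hz]
          rw [← h1, hzW (k * cz⁻¹) (h1 ▸ hzc), map_one]
        obtain ⟨l, hl⟩ := D.weak u (isConj_iff.mpr ⟨g, rfl⟩)
          (mul_inv_eq_iff_eq_mul.mp (mul_inv_eq_one.mp hz1))
        exact ⟨l, (congrArg π hl).trans hxu⟩ }
  have htop : normalClosure ({D'.t} : Set (G ⧸ center G)) = ⊤ := by
    have h := map_normalClosure ({D.t} : Set G) π (QuotientGroup.mk'_surjective _)
    rw [hN, Set.image_singleton, Subgroup.map_top_of_surjective π (QuotientGroup.mk'_surjective _)] at h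
    exact h.symm
  have hJ : Cfsg.Spor.IsoJ1 (⊤ : Subgroup (G ⧸ center G)) := htop ▸ ih D'
  have hcard : Nat.card (G ⧸ center G) = 175560 := by
    rw [← j1_card hJ, Subgroup.card_top]
  -- the group is perfect
  have hperf : commutator G = ⊤ := by
    refine eq_top_iff.mpr ?_
    rw [← hN]
    refine normalClosure_le_normal (Set.singleton_subset_iff.mpr ?_)
    obtain ⟨a, b, hab⟩ := sig_commutator 3 (Or.inl rfl)
    obtain ⟨g, hg⟩ := isConj_iff.mp (D.isConj_sig (i := 3) (by decide))
    have hmem : D.hom (sig 3) ∈ commutator G := by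
      rw [← hab, map_mul, map_mul, map_mul, map_inv, map_inv, ← commutatorElement_def, _root_.commutator_def]
      exact commutator_mem_commutator (mem_top _) (mem_top _)
    have := (inferInstance : (commutator G).Normal).conj_mem _ hmem g⁻¹
    rw [← hg] at this
    show D.t ∈ commutator G
    rwa [show g⁻¹ * (g * D.t * g⁻¹) * g⁻¹⁻¹ = D.t by group] at this
  obtain ⟨z0, hz0, hz01⟩ := (center G).bot_or_exists_ne_one.resolve_left hZ
  obtain ⟨p, hp, hpz⟩ := Nat.exists_prime_and_dvd (fun e => hz01 (orderOf_eq_one_iff.mp e) : orderOf z0 ≠ 1)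
  haveI : Fact p.Prime := ⟨hp⟩
  set z := z0 ^ (orderOf z0 / p) with hz
  have hzo : orderOf z = p := orderOf_pow_orderOf_div (orderOf_pos z0).ne' hpz
  have hzc : z ∈ center G := pow_mem hz0 _
  -- a Sylow subgroup is abelian
  have hPdvd : ∀ P : Sylow p G, Nat.card ((P : Subgroup G).map π) ∣ 175560 := fun P =>
    hcard ▸ card_subgroup_dvd_card _
  obtain ⟨P, hPcomm⟩ : ∃ P : Sylow p G, ∀ a ∈ (P : Subgroup G), ∀ b ∈ (P : Subgroup G), a * b = b * a := by
    by_cases hp2 : p = 2
    · subst hp2
      let E : Subgroup G :=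
        { carrier := Set.range fun i => D.hom (sig i)
          one_mem' := ⟨0, by simp [sig_zero.1]⟩
          mul_mem' := by
            rintro _ _ ⟨i, rfl⟩ ⟨j, rfl⟩
            exact ⟨addI i j, by simp [← sig_mul]⟩
          inv_mem' := by
            rintro _ ⟨i, rfl⟩
            exact ⟨i, (inv_eq_of_mul_eq_one_right (by rw [← map_mul, WData.sig_sq, map_one])).symm⟩ }
      have hE : IsPGroup 2 E := fun e => ⟨1, Subtype.ext (by
        obtain ⟨i, hi⟩ := e.2
        show (e : G) ^ 2 ^ 1 = 1
        rw [← hi, pow_one, pow_two, ← map_mul, WData.sig_sq, map_one])⟩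
      obtain ⟨P, hEP⟩ := hE.exists_le_sylow
      refine ⟨P, ?_⟩
      have hEc : Nat.card (E.map π) = 8 := by
        have hinj : Function.Injective fun i : Fin 8 => π (D.hom (sig i)) := fun i j h =>
          sig_injective i j (D'.inj h)
        have : ((E.map π : Subgroup (G ⧸ center G)) : Set (G ⧸ center G)) =
            Set.range fun i : Fin 8 => π (D.hom (sig i)) := by
          ext x
          constructor
          · rintro ⟨_, ⟨i, rfl⟩, rfl⟩; exact ⟨i, rfl⟩
          · rintro ⟨i, rfl⟩; exact ⟨_, ⟨i, rfl⟩, rfl⟩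
        rw [show Nat.card (E.map π) = Nat.card ↥((E.map π : Subgroup (G ⧸ center G)) : Set (G ⧸ center G))
          from rfl, this, Nat.card_range_of_injective hinj, Nat.card_eq_fintype_card, Fintype.card_fin]
      have hEq : E.map π = (P : Subgroup G).map π := by
        refine eq_of_le_of_card_ge (map_mono hEP) ?_
        rw [hEc]
        obtain ⟨n, hn⟩ := IsPGroup.iff_card.mp (P.2.map π)
        have hd := hPdvd P
        rw [hn] at hd
        rw [hn, show (8 : ℕ) = 2 ^ 3 by norm_num]
        refine Nat.pow_le_pow_right (by norm_num) ?_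
        by_contra hlt
        exact absurd ((pow_dvd_pow 2 (show 4 ≤ n by omega)).trans hd) (by norm_num)
      have hdec : ∀ a ∈ (P : Subgroup G), ∃ i, ∃ w ∈ center G, a = D.hom (sig i) * w := by
        intro a ha
        obtain ⟨_, ⟨i, rfl⟩, hi⟩ := (hEq ▸ mem_map_of_mem π ha : π a ∈ E.map π)
        exact ⟨i, _, QuotientGroup.eq.mp hi, by group⟩
      intro a ha b hb
      obtain ⟨i, w, hw, rfl⟩ := hdec a ha
      obtain ⟨j, v, hv, rfl⟩ := hdec b hb
      have hwc : ∀ x, Commute w x := fun x => (Subgroup.mem_center_iff.mp hw x).symm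
      have hvc : ∀ x, Commute v x := fun x => (Subgroup.mem_center_iff.mp hv x).symm
      exact ((((show Commute (sig i) (sig j) from WData.sig_comm i j).map D.hom).mul_right
        (hvc _).symm).mul_left ((hwc _).mul_right (hwc _))).eq
    · obtain ⟨P⟩ : Nonempty (Sylow p G) := inferInstance
      refine ⟨P, fun a ha b hb => ?_⟩
      have hcyc : IsCyclic ((P : Subgroup G).map π) := by
        obtain ⟨n, hn⟩ := IsPGroup.iff_card.mp (P.2.map π)
        have hd := hPdvd P
        rw [hn] at hd
        rcases n with - | - | n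
        · rw [pow_zero] at hn
          haveI := (Nat.card_eq_one_iff_unique.mp hn).1
          infer_instance
        · exact isCyclic_of_prime_card (p := p) (by rw [hn, pow_one])
        · exfalso
          have h2 : p ^ 2 ∣ 2 ^ 3 * 21945 := (pow_dvd_pow p (by omega)).trans hd
          have h3 : p * p ∣ 21945 := by
            rw [← pow_two]
            exact (((Nat.coprime_primes hp Nat.prime_two).mpr hp2).pow 2 3).dvd_of_dvd_mul_left h2
          exact hp.ne_one (Nat.isUnit_iff.mp ((by decide +kernel : Squarefree (21945 : ℕ)) p h3))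
      exact congrArg Subtype.val (commutative_of_cyclic_center_quotient
        (π.subgroupMap (P : Subgroup G)) (fun x hx => Subgroup.mem_center_iff.mpr fun y => Subtype.ext
          (Subgroup.mem_center_iff.mp ((QuotientGroup.eq_one_iff _).mp (congrArg Subtype.val hx)) y))
        ⟨a, ha⟩ ⟨b, hb⟩)
  -- so the transfer kills the central element
  have hzP : z ∈ (P : Subgroup G) := by
    obtain ⟨Q, hQ⟩ := (IsPGroup.of_card (n := 1) (by rw [Nat.card_zpowers, hzo, pow_one]) :
      IsPGroup p (zpowers z)).exists_le_sylow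
    obtain ⟨g, hg⟩ := MulAction.exists_smul_eq G Q P
    rw [← hg, Sylow.coe_subgroup_smul]
    exact ⟨z, hQ (mem_zpowers z), (mul_inv_eq_iff_eq_mul.mpr (Subgroup.mem_center_iff.mp hzc g) :)⟩
  letI : CommGroup (P : Subgroup G) :=
    { (inferInstance : Group (P : Subgroup G)) with
      mul_comm := fun a b => Subtype.ext (hPcomm a a.2 b b.2) }
  let T : G →* (P : Subgroup G) := MonoidHom.transfer (MonoidHom.id _)
  have key : ∀ (k : ℕ) (g₀ : G), g₀⁻¹ * z ^ k * g₀ ∈ (P : Subgroup G) → g₀⁻¹ * z ^ k * g₀ = z ^ k :=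
    fun k g₀ _ => by
      rw [mul_assoc, ← Subgroup.mem_center_iff.mp (pow_mem hzc k) g₀, inv_mul_cancel_left]
  have h1 : T z = 1 := MonoidHom.mem_ker.mp (Abelianization.commutator_subset_ker T (hperf ▸ mem_top z))
  rw [MonoidHom.transfer_eq_pow _ z key, MonoidHom.id_apply] at h1
  have h2 : z ^ (P : Subgroup G).index = 1 := congrArg Subtype.val h1
  have h3 := orderOf_dvd_of_pow_eq_one h2
  rw [hzo] at h3
  exact P.not_dvd_index h3

/-- The theorem, by induction on the order. -/
theorem main_induction : ∀ (n : ℕ) (G : Type u) [Group G] [Finite G], Nat.card G ≤ n →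
    ∀ D : WData G, Cfsg.Spor.IsoJ1 (normalClosure ({D.t} : Set G)) := by
  intro n
  induction n with
  | zero => intro G _ _ h; exact absurd h (by have := Nat.card_pos (α := G); omega)
  | succ n ih =>
    intro G _ _ hn D
    classical
    obtain ⟨M, rfl⟩ := D.exists_marked
    have ihH : ∀ H : Subgroup G, H ≠ ⊤ → ∀ D' : WData H,
        Cfsg.Spor.IsoJ1 (normalClosure ({D'.t} : Set H)) := by
      intro H hH
      refine ih H ?_
      have : Nat.card H < Nat.card G := lt_of_le_of_ne (H.card_le_card_group) fun e =>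
        hH (eq_top_of_card_eq H e)
      omega
    set N := normalClosure ({M.toWData.t} : Set G) with hN
    by_cases hNtop : N = ⊤
    · -- the closure is everything
      suffices h : Cfsg.Spor.IsoJ1 G by
        obtain ⟨e⟩ := h
        rw [hNtop]
        exact ⟨Subgroup.topEquiv.trans e⟩
      by_cases hK : M.K₀ = ⊥
      · exact case_trivial M hNtop hK
      exfalso
      by_cases hZ : center G = ⊥
      swap
      · refine case_center M.toWData hNtop hZ (ih _ ?_)
        have h1 := card_eq_card_quotient_mul_card_subgroup (center G)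
        have h2 : 1 < Nat.card (center G) := Finite.one_lt_card_iff_nontrivial.mpr
          ((center G).nontrivial_iff_ne_bot.mpr hZ)
        have h3 : 0 < Nat.card (G ⧸ center G) := Nat.card_pos
        have h4 : Nat.card (G ⧸ center G) < Nat.card G := by rw [h1]; exact lt_mul_of_one_lt_right h3 h2
        omega
      -- a subgroup centralised by `K₀`
      have hne : centralizer (M.K₀ : Set G) ≠ ⊤ := fun h => hK (le_bot_iff.mp fun c hc => by
        rw [← hZ, Subgroup.mem_center_iff]
        exact fun g => ((mem_centralizer_iff.mp (h ▸ mem_top g : g ∈ centralizer (M.K₀ : Set G)) c hc)).symm)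
      obtain ⟨L, hLC, hLiso, -, hLW⟩ := M.sub_janko _
        (fun k => mem_centralizer_iff.mpr fun c hc => (M.hom_commute hc k).eq)
        (mem_centralizer_iff.mpr fun c hc => hc.2.eq) (ihH _ hne)
      have S : Local M L := ⟨hLiso, hLW, fun c hc l hl => mem_centralizer_iff.mp (hLC hl) c hc⟩
      have hC : ∀ c ∈ M.K₀, c ≠ 1 → centralizer ({c} : Set G) ≤ normalizer (L : Set G) := by
        intro c hc hc1
        have hne' : centralizer ({c} : Set G) ≠ ⊤ := fun h => hc1 (mem_bot.mp (hZ ▸
          Subgroup.mem_center_iff.mpr fun g => mem_centralizer_singleton_iff.mp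
            (h ▸ mem_top g : g ∈ centralizer ({c} : Set G))))
        obtain ⟨L', hL'C, hL'iso, hL'n, hL'W⟩ := M.sub_janko _
          (fun k => mem_centralizer_singleton_iff.mpr (M.hom_commute hc k).eq.symm)
          (mem_centralizer_singleton_iff.mpr hc.2.eq.symm) (ihH _ hne')
        have hLc : L ≤ centralizer ({c} : Set G) := fun l hl =>
          mem_centralizer_singleton_iff.mpr (S.commutes c hc l hl).eq.symm
        haveI := j1_simple hLiso
        haveI : (L'.subgroupOf L).Normal := ⟨fun x hx g => mem_subgroupOf.mpr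
          ((mem_normalizer_iff.mp (hL'n (hLc g.2)) _).mp (mem_subgroupOf.mp hx))⟩
        have hle : L ≤ L' := by
          rcases (inferInstance : (L'.subgroupOf L).Normal).eq_bot_or_eq_top with h | h
          · exfalso
            have : (⟨M.toWData.t, S.t_mem⟩ : L) ∈ L'.subgroupOf L := mem_subgroupOf.mpr (hL'W cz)
            rw [h, mem_bot] at this
            exact Involution.ne_one M.toWData.orderOf_t (congrArg Subtype.val this)
          · exact subgroupOf_eq_top.mp h
        rw [eq_of_le_of_card_ge hle (by rw [j1_card hL'iso, j1_card hLiso])]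
        exact hL'n
      have hLn : L.Normal := normalizer_eq_top_iff.mp (S.normalizer_eq_top hC)
      have hLtop : L = ⊤ := top_le_iff.mp (hNtop ▸
        normalClosure_le_normal (Set.singleton_subset_iff.mpr S.t_mem))
      exact hne (top_le_iff.mp (hLtop ▸ hLC))
    · -- the closure is proper
      obtain ⟨L, hLN, hLiso, hLn, hLW⟩ := M.sub_janko N (M.toWData.hom_mem_normalClosure)
        M.y_gam.2.2 (ihH N hNtop)
      haveI := j1_simple hLiso
      have hNn : N.Normal := normalClosure_normal
      have hconj : ∀ g : G, g * M.toWData.t * g⁻¹ ∈ L := by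
        intro g
        let L' : Subgroup G := L.comap (MulAut.conj g).toMonoidHom
        have hmem : ∀ x, x ∈ L' ↔ g * x * g⁻¹ ∈ L := fun x => Iff.rfl
        haveI : (L'.subgroupOf L).Normal := ⟨fun x hx a => mem_subgroupOf.mpr ((hmem _).mpr (by
          have h := (mem_normalizer_iff.mp (hLn (hNn.conj_mem _ (hLN a.2) g)) _).mp
            ((hmem _).mp (mem_subgroupOf.mp hx))
          rw [Subgroup.coe_mul, Subgroup.coe_mul, Subgroup.coe_inv]
          rwa [show g * (a : G) * g⁻¹ * (g * (x : G) * g⁻¹) * (g * (a : G) * g⁻¹)⁻¹ =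
            g * ((a : G) * x * (a : G)⁻¹) * g⁻¹ by group] at h))⟩
        rcases (inferInstance : (L'.subgroupOf L).Normal).eq_bot_or_eq_top with h | h
        · exfalso
          set u := g⁻¹ * M.toWData.t * g with hu
          have huL' : u ∈ L' := (hmem _).mpr (by rw [hu]; group; exact hLW cz)
          have htN : M.toWData.t ∈ N := subset_normalClosure (Set.mem_singleton _)
          have huN : u ∈ N := by
            have := hNn.conj_mem _ htN g⁻¹
            rwa [inv_inv] at this
          have hL'n : ∀ n ∈ N, ∀ x ∈ L', n * x * n⁻¹ ∈ L' := fun n hn' x hx => (hmem _).mpr (by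
            have h := (mem_normalizer_iff.mp (hLn (hNn.conj_mem _ hn' g)) _).mp ((hmem _).mp hx)
            rwa [show g * n * g⁻¹ * (g * x * g⁻¹) * (g * n * g⁻¹)⁻¹ = g * (n * x * n⁻¹) * g⁻¹ by group] at h)
          have hc : M.toWData.t * u * M.toWData.t⁻¹ * u⁻¹ = 1 := by
            have h1 : M.toWData.t * u * M.toWData.t⁻¹ * u⁻¹ ∈ L := by
              have := mul_mem (hLW cz) ((mem_normalizer_iff.mp (hLn huN) _).mp (inv_mem (hLW cz)))
              rwa [show M.hom cz * (u * (M.hom cz)⁻¹ * u⁻¹) = M.hom cz * u * (M.hom cz)⁻¹ * u⁻¹ by group] at this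
            have h2 : M.toWData.t * u * M.toWData.t⁻¹ * u⁻¹ ∈ L' :=
              mul_mem (hL'n _ htN u huL') (inv_mem huL')
            have h3 : (⟨_, h1⟩ : L) ∈ L'.subgroupOf L := mem_subgroupOf.mpr h2
            rw [h, mem_bot] at h3
            exact congrArg Subtype.val h3
          obtain ⟨k, hk⟩ := M.weak u (isConj_iff.mpr ⟨g⁻¹, by rw [hu, inv_inv]⟩)
            (mul_inv_eq_iff_eq_mul.mp (mul_inv_eq_one.mp hc)).symm
          have h3 : (⟨u, hk ▸ hLW k⟩ : L) ∈ L'.subgroupOf L := mem_subgroupOf.mpr huL'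
          rw [h, mem_bot] at h3
          have h4 : u = 1 := congrArg Subtype.val h3
          exact Involution.ne_one M.toWData.orderOf_t (by
            calc M.toWData.t = g * u * g⁻¹ := by rw [hu]; group
              _ = 1 := by rw [h4]; group)
        · exact (hmem _).mp (subgroupOf_eq_top.mp h (hLW cz))
      have hle : N ≤ L := by
        refine (closure_le L).mpr ?_
        intro x hx
        obtain ⟨a, ha, hc⟩ := Group.mem_conjugatesOfSet_iff.mp hx
        rw [Set.mem_singleton_iff] at ha
        obtain ⟨g, rfl⟩ := isConj_iff.mp hc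
        exact ha ▸ hconj g
      rw [le_antisymm hle hLN]
      exact hLiso

/-- The normal closure of the involution is the first Janko group. -/
theorem main (D : WData G) : Cfsg.Spor.IsoJ1 (normalClosure ({D.t} : Set G)) :=
  main_induction (Nat.card G) G le_rfl D

end Cfsg.Agent.Lib.JankoUnique.Weak
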