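import Cfsg.Agent.Lib.JankoUnique.Weak.Basic
import Mathlib

/-!
# The element of order seven and the structure of the involution centraliser
-/

set_option autoImplicit false
set_option linter.unusedSectionVars false

namespace Cfsg.Agent.Lib.JankoUnique.Weak

open Cfsg.Agent.Lib.JankoOrder (Cen2A5 cz)
open Subgroup

universe u

theorem fixed_point_affine : ∀ e : Fin 8, addI (addI e (actX e)) (actX (actX e)) = 0 →
    ∃ a : Fin 8, addI (actX a) e = a := by decide +kernel

theorem addI_zero : ∀ a : Fin 8, addI a 0 = a := by decide +kernel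

theorem addI_cancel : ∀ a b c : Fin 8, addI a c = addI b c → a = b := by decide +kernel

theorem addI_facts : ∀ a b c : Fin 8, addI a b = addI b a ∧ addI (addI a b) c = addI a (addI b c) ∧
    addI a a = 0 := by decide +kernel

theorem presV_iff {p : Fin 8 → Fin 8} : presV p = true ↔
    ∀ i : Fin 8, (i = 3 ∨ i = 5 ∨ i = 6) → (p i = 3 ∨ p i = 5 ∨ p i = 6) := by
  simp [presV, or_assoc]

variable {G : Type u} [Group G]

namespace WData

variable (D : WData G)

/-- The elements normalising the subgroup of order eight, centralising its centraliser modulo it, and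
lying in the normal closure of the involution. -/
def gam : Subgroup G where
  carrier := {n | (∃ p, D.Act n p) ∧ (∀ c, D.Cent c → D.InE (n * c * n⁻¹ * c⁻¹)) ∧
    n ∈ normalClosure ({D.t} : Set G)}
  one_mem' := ⟨⟨id, Act.one D⟩, fun c _ => ⟨0, by rw [sig_zero.1, map_one]; group⟩, one_mem _⟩
  mul_mem' := by
    rintro m n ⟨⟨p, hp⟩, hm, hm'⟩ ⟨⟨q, hq⟩, hn, hn'⟩
    refine ⟨⟨p ∘ q, Act.mul D hp hq⟩, fun c hc => ?_, mul_mem hm' hn'⟩
    obtain ⟨i, hi⟩ := hn c hc
    obtain ⟨j, hj⟩ := hm c hc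
    refine ⟨addI (p i) j, ?_⟩
    rw [← sig_mul, map_mul, ← hp, ← hi, ← hj]
    group
  inv_mem' := by
    rintro n ⟨⟨p, hp⟩, hn, hn'⟩
    refine ⟨⟨invMap p, Act.inv D hp⟩, fun c hc => ?_, inv_mem hn'⟩
    obtain ⟨i, hi⟩ := hn c hc
    refine ⟨invMap p i, ?_⟩
    have h1 := Act.inv D hp i
    rw [inv_inv] at h1
    rw [inv_inv, ← h1, ← inv_eq_of_mul_eq_one_right
      (show D.hom (sig i) * D.hom (sig i) = 1 by rw [← map_mul, sig_sq, map_one]), ← hi]
    group

theorem mem_gam {n : G} : n ∈ D.gam ↔ (∃ p, D.Act n p) ∧ (∀ c, D.Cent c → D.InE (n * c * n⁻¹ * c⁻¹)) ∧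
    n ∈ normalClosure ({D.t} : Set G) := Iff.rfl

theorem hom_mem_normalClosure (k : Cen2A5) : D.hom k ∈ normalClosure ({D.t} : Set G) :=
  D.hom_mem normalClosure_normal (subset_normalClosure (Set.mem_singleton _)) k

theorem sig_mem_gam (j : Fin 8) : D.hom (sig j) ∈ D.gam := by
  refine ⟨⟨id, D.act_sig j⟩, fun c hc => ⟨0, ?_⟩, D.hom_mem_normalClosure _⟩
  rw [sig_zero.1, map_one, ← (hc j).eq]
  group

theorem gX_mem_gam : D.hom gX ∈ D.gam := by
  refine ⟨⟨actX, D.act_gX⟩, fun c hc => ?_, D.hom_mem_normalClosure _⟩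
  obtain ⟨i, hi⟩ := D.exists_adjust hc
  refine ⟨addI (actX i) i, ?_⟩
  have h1 := D.act_gX i
  have h2 := (hi gX).eq
  have hs : (D.hom (sig i))⁻¹ = D.hom (sig i) := inv_eq_of_mul_eq_one_right (by
    rw [← map_mul, sig_sq, map_one])
  rw [hs] at h2
  have hc2 : c = D.hom (sig i) * (D.hom (sig i) * c) := by
    rw [← mul_assoc, ← map_mul, sig_sq, map_one, one_mul]
  rw [← sig_mul, map_mul, ← h1]
  generalize D.hom (sig i) * c = c' at h2 hc2
  subst hc2
  calc D.hom gX * (D.hom (sig i) * c') * (D.hom gX)⁻¹ * (D.hom (sig i) * c')⁻¹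
      = D.hom gX * D.hom (sig i) * (c' * (D.hom gX)⁻¹ * c'⁻¹) * (D.hom (sig i))⁻¹ := by group
    _ = D.hom gX * D.hom (sig i) * (D.hom gX)⁻¹ * (D.hom (sig i))⁻¹ := by
      rw [show c' * (D.hom gX)⁻¹ * c'⁻¹ = (D.hom gX)⁻¹ from
        mul_inv_eq_iff_eq_mul.mpr ((show Commute c' (D.hom gX) from h2).inv_right).eq]
    _ = D.hom gX * D.hom (sig i) * (D.hom gX)⁻¹ * D.hom (sig i) := by rw [hs]

theorem conj_gX_mem_gam {n : G} {p : Fin 8 → Fin 8} (hn : D.Act n p) : n * D.hom gX * n⁻¹ ∈ D.gam := by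
  obtain ⟨-, hX, -⟩ := D.gX_mem_gam
  refine ⟨⟨_, Act.mul D (Act.mul D hn D.act_gX) (Act.inv D hn)⟩, fun c hc => ?_,
    normalClosure_normal.conj_mem _ (D.hom_mem_normalClosure _) n⟩
  have hc' : D.Cent (n⁻¹ * c * n) := D.cent_of_act (by
    have h := Act.mul D (Act.mul D (Act.inv D hn) (D.act_cent hc)) hn
    rwa [show (invMap p ∘ id) ∘ p = id from funext fun i =>
      Act.injective D hn (invMap_spec (Act.injective D hn) (p i))] at h)
  obtain ⟨i, hi⟩ := hX _ hc'
  exact ⟨p i, by rw [← hn, ← hi]; group⟩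

theorem evalMap_act {f : Fin 3 → Fin 8 → Fin 8} {g : Fin 3 → G} (h : ∀ a, D.Act (g a) (f a)) :
    ∀ w : List (Fin 3), D.Act (w.map g).prod (evalMap f w)
  | [] => fun i => by simp [evalMap]
  | a :: w => by
    rw [List.map_cons, List.prod_cons]
    exact Act.mul D (h a) (evalMap_act h w)

/-- The normal subgroup of order eight inside `gam`. -/
def eGam : Subgroup D.gam where
  carrier := {n | D.InE (n : G)}
  one_mem' := ⟨0, by rw [sig_zero.1, map_one]; rfl⟩
  mul_mem' := by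
    rintro a b ⟨i, hi⟩ ⟨j, hj⟩
    exact ⟨addI i j, by rw [Subgroup.coe_mul, hi, hj, ← map_mul, sig_mul]⟩
  inv_mem' := by
    rintro a ⟨i, hi⟩
    exact ⟨i, by rw [Subgroup.coe_inv, hi]; exact inv_eq_of_mul_eq_one_right (by
      rw [← map_mul, sig_sq, map_one])⟩

theorem eGam_normal : (D.eGam).Normal := ⟨fun a ⟨i, hi⟩ g => by
  obtain ⟨⟨p, hp⟩, -, -⟩ := g.2
  exact ⟨p i, by rw [Subgroup.coe_mul, Subgroup.coe_mul, Subgroup.coe_inv, hi, hp]⟩⟩

variable [Finite G]

/-- An element of order seven normalised by the element of order three. -/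
theorem exists_seven : ∃ (y : G) (p : Fin 8 → Fin 8) (k : ℕ), k < 7 ∧ y ∈ D.gam ∧ orderOf y = 7 ∧
    D.hom gX * y * (D.hom gX)⁻¹ = y ^ k ∧ D.Act y p ∧
    (∀ i : Fin 8, p i = i → i = 0) ∧ (∀ i : Fin 8, i ≠ 0 → ∃ j : ℕ, p^[j] 4 = i) ∧
    ∃ q r u : Fin 8, goodB (linI q r u) = true ∧ ∃ m : ℕ, (linI q r u) = p^[m] := by
  classical
  haveI := D.eGam_normal
  obtain ⟨n₁, p₁, h₁, h₁'⟩ := D.exists_move (i₀ := 1) (Or.inl rfl)
  obtain ⟨n₂, p₂, h₂, h₂'⟩ := D.exists_move (i₀ := 5) (Or.inr rfl)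
  have hl₁ : p₁ = linI (p₁ 1) (p₁ 2) 1 := by conv_lhs => rw [Act.linear D h₁, h₁']
  have hl₂ : p₂ = linI (p₂ 1) (p₂ 2) 5 := by conv_lhs => rw [Act.linear D h₂, h₂']
  have hw := exists_seven_word (p₁ 1) (p₁ 2) (p₂ 1) (p₂ 2)
    (injB_iff.mpr (hl₁ ▸ Act.injective D h₁)) (injB_iff.mpr (hl₂ ▸ Act.injective D h₂))
  rw [← hl₁, ← hl₂] at hw
  obtain ⟨w, -, hgood⟩ := List.any_eq_true.mp hw
  let g : Fin 3 → G := fun a => match a with
    | 0 => D.hom gX
    | 1 => n₁ * D.hom gX * n₁⁻¹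
    | 2 => n₂ * D.hom gX * n₂⁻¹
  have hg : ∀ a, D.Act (g a) (letters p₁ p₂ a) := fun a => match a with
    | 0 => D.act_gX
    | 1 => (Act.mul D (Act.mul D h₁ D.act_gX) (Act.inv D h₁) :)
    | 2 => (Act.mul D (Act.mul D h₂ D.act_gX) (Act.inv D h₂) :)
  have hgm : ∀ a, g a ∈ D.gam := fun a => match a with
    | 0 => D.gX_mem_gam
    | 1 => D.conj_gX_mem_gam h₁
    | 2 => D.conj_gX_mem_gam h₂
  set y₀ := (w.map g).prod with hy₀
  have hy₀m : y₀ ∈ D.gam := D.gam.list_prod_mem fun x hx => by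
    obtain ⟨a, -, rfl⟩ := List.mem_map.mp hx; exact hgm a
  set p := evalMap (letters p₁ p₂) w with hp
  have hact : D.Act y₀ p := D.evalMap_act hg w
  have hgood' := hgood
  simp only [goodB, Bool.and_eq_true, Bool.or_eq_true, bne_iff_ne, eqMap_iff] at hgood'
  obtain ⟨⟨⟨h7, hmv⟩, hmv3⟩, hnorm⟩ := hgood'
  have hplin := Act.linear D hact
  have hgood0 : goodB (linI (p 1) (p 2) (p 4)) = true := by rw [← hplin]; exact hgood
  obtain ⟨horb, hfix⟩ := good_orbit _ _ _ hgood0
  rw [← hplin] at horb hfix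
  have hp7 : ∀ (a b : ℕ), p^[a + 7 * b] = p^[a] := fun a b => by
    rw [Function.iterate_add, Function.iterate_mul, h7]
    simp [Function.iterate_id]
  obtain ⟨k, hk24, hk⟩ : ∃ k : ℕ, (k = 2 ∨ k = 4) ∧ ∀ i, actX (p i) = p^[k] (actX i) := by
    rcases hnorm with h | h
    · exact ⟨2, Or.inl rfl, fun i => congrFun h i⟩
    · exact ⟨4, Or.inr rfl, fun i => congrFun h i⟩
  -- the quotient by the subgroup of order eight
  let X : D.gam := ⟨_, D.gX_mem_gam⟩
  let Y : D.gam := ⟨y₀, hy₀m⟩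
  let π := QuotientGroup.mk' D.eGam
  have hcentral : ∀ (a z : D.gam), D.Cent (z : G) → π a * π z = π z * π a := fun a z hz => by
    rw [← mul_inv_eq_iff_eq_mul, ← mul_inv_eq_one, ← map_inv, ← map_inv, ← map_mul, ← map_mul, ← map_mul]
    exact (QuotientGroup.eq_one_iff _).mpr ((a.2).2.1 _ hz)
  set z : D.gam := (Y ^ k)⁻¹ * (X * Y * X⁻¹) with hz
  have hzc : D.Cent (z : G) := D.cent_of_act (by
    have h := Act.mul D (Act.inv D (Act.pow D hact k))
      (Act.mul D (Act.mul D D.act_gX hact) (Act.inv D D.act_gX))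
    have e : invMap (p^[k]) ∘ ((actX ∘ p) ∘ invMap actX) = id := funext fun i => by
      apply Act.injective D (Act.pow D hact k)
      simp only [Function.comp_apply, id_eq]
      rw [invMap_spec (Act.injective D (Act.pow D hact k)), hk,
        invMap_spec (Act.injective D D.act_gX)]
    rw [e] at h
    exact h)
  have hY7 : D.Cent ((Y ^ 7 : D.gam) : G) := D.cent_of_act (by
    have := Act.pow D hact 7
    rw [h7] at this
    exact this)
  have hconj : π X * π Y * (π X)⁻¹ = π Y ^ k * π z := by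
    rw [hz, ← map_inv, ← map_mul, ← map_mul, ← map_pow, ← map_mul, mul_inv_cancel_left]
  set c : D.gam := Y ^ k * z * Y⁻¹ with hc
  have hcomm : Commute (π Y) (π z) := hcentral Y z hzc
  have hz7 : π z ^ 7 * π Y ^ (7 * k) = π Y ^ 7 := by
    have h1 : (π X * π Y * (π X)⁻¹) ^ 7 = π X * π Y ^ 7 * (π X)⁻¹ := conj_pow
    have h2 : π X * π Y ^ 7 * (π X)⁻¹ = π Y ^ 7 := by
      rw [← map_pow π Y 7, hcentral X _ hY7, mul_inv_cancel_right]
    rw [h2, hconj, (hcomm.pow_left k).mul_pow, ← pow_mul] at h1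
    rw [← h1, mul_comm k 7]
    exact ((hcomm.pow_left (7 * k)).pow_right 7).eq.symm
  have hcE : π c ^ 7 = 1 := by
    have hcc : π c = π Y ^ k * (π z * (π Y)⁻¹) := by rw [hc, map_mul, map_mul, map_inv, map_pow, mul_assoc]
    rw [hcc, ((hcomm.pow_left k).mul_right ((Commute.refl (π Y)).pow_left k).inv_right).mul_pow,
      hcomm.symm.inv_right.mul_pow, ← pow_mul, ← mul_assoc,
      show k * 7 = 7 * k by ring, ((hcomm.pow_left (7 * k)).pow_right 7).eq, hz7, inv_pow, mul_inv_cancel]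
  have hactc : D.Act (c : G) (p^[k - 1]) := by
    have h := Act.mul D (Act.mul D (Act.pow D hact k) (D.act_cent hzc)) (Act.inv D hact)
    have e : (p^[k] ∘ id) ∘ invMap p = p^[k - 1] := funext fun i => by
      simp only [Function.comp_apply, id_eq]
      conv_lhs => rw [show k = (k - 1) + 1 by omega, Function.iterate_succ_apply,
        invMap_spec (Act.injective D hact)]
    rw [e] at h
    exact h
  set y₁ := c ^ 8 with hy₁
  have hp' : (p^[k - 1])^[8] = p^[k - 1] := by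
    rw [← Function.iterate_mul, show (k - 1) * 8 = (k - 1) + 7 * (k - 1) by ring, hp7]
  have hact₁ : D.Act (y₁ : G) (p^[k - 1]) := by
    have := Act.pow D hactc 8
    rwa [hp'] at this
  have hy₁7 : y₁ ^ 7 = 1 := by
    obtain ⟨i, hi⟩ : D.InE ((c ^ 7 : D.gam) : G) := (QuotientGroup.eq_one_iff _).mp (by
      rw [← hcE]; rfl)
    refine Subtype.ext ?_
    rw [hy₁, ← pow_mul, show 8 * 7 = 7 * 8 by norm_num, pow_mul, Subgroup.coe_pow, hi,
      show (8 : ℕ) = 2 * 4 by norm_num, pow_mul, pow_two, ← map_mul, sig_sq, map_one, one_pow]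
    rfl
  have hpk : (p^[k - 1]) 4 ≠ 4 := by
    rcases hk24 with rfl | rfl
    · simpa using hmv
    · exact hmv3
  -- the conjugates by the subgroup of order eight
  let e : Fin 8 → D.gam := fun a => ⟨D.hom (sig a), D.sig_mem_gam a⟩
  have he_mul : ∀ a b, e a * e b = e (addI a b) := fun a b => Subtype.ext (by
    show D.hom (sig a) * D.hom (sig b) = D.hom (sig (addI a b))
    rw [← map_mul, sig_mul])
  have he_inv : ∀ a, (e a)⁻¹ = e a := fun a => inv_eq_of_mul_eq_one_right (by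
    rw [he_mul, (addI_facts a a a).2.2]; exact Subtype.ext (by show D.hom (sig 0) = 1; rw [sig_zero.1, map_one]))
  have hfixk : ∀ i, (p^[k - 1]) i = i → i = 0 := by
    intro i hi
    refine hfix i ?_
    have h4 : (p^[k - 1])^[(if k = 2 then 1 else 5)] i = i := (Function.IsFixedPt.iterate hi _).eq
    rcases hk24 with rfl | rfl
    · simpa using hi
    · rw [if_neg (by norm_num), ← Function.iterate_mul, show (4 - 1) * 5 = 1 + 7 * 2 by norm_num, hp7] at h4
      simpa using h4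
  -- conjugates in one coset
  have hinj : ∀ a b, e a * y₁ * (e a)⁻¹ = e b * y₁ * (e b)⁻¹ → a = b := by
    intro a b hab
    have hab' : (D.hom (sig (addI b a))) * (y₁ : G) = (y₁ : G) * D.hom (sig (addI b a)) := by
      have h1 : e b * e a * y₁ = y₁ * (e b * e a) := by
        calc e b * e a * y₁ = e b * (e a * y₁ * (e a)⁻¹) * e a := by group
          _ = e b * (e b * y₁ * (e b)⁻¹) * e a := by rw [hab]
          _ = e b * e b * y₁ * (e b)⁻¹ * e a := by group
          _ = y₁ * (e b * e a) := by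
            rw [show e b * e b = 1 by nth_rewrite 2 [← he_inv b]; exact mul_inv_cancel _, one_mul,
              he_inv, mul_assoc]
      rw [he_mul] at h1
      exact congrArg Subtype.val h1
    have h2 := hfixk (addI b a) (sig_injective _ _ (D.inj (by
      rw [← hact₁, ← hab', mul_inv_cancel_right])))
    exact (addI_cancel b a a (by rw [h2, (addI_facts a a a).2.2])).symm
  have hconjX : ∀ a, X * e a * X⁻¹ = e (actX a) := fun a => Subtype.ext (D.act_gX a)
  -- the conjugate of `y₁` by `X`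
  have hXy : π X * π y₁ * (π X)⁻¹ = π y₁ ^ k := by
    have hXc : π X * π c * (π X)⁻¹ = π c ^ k := by
      have hXz : π X * π z * (π X)⁻¹ = π z := by rw [hcentral X z hzc, mul_inv_cancel_right]
      have hcY : Commute (π c) (π Y) := by
        rw [hc, map_mul, map_mul, map_inv, map_pow]
        exact (((Commute.refl (π Y)).pow_left k).mul_left hcomm.symm).mul_left (Commute.refl (π Y)).inv_left
      calc π X * π c * (π X)⁻¹ = (π X * π Y * (π X)⁻¹) ^ k * (π X * π z * (π X)⁻¹) *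
            (π X * π Y * (π X)⁻¹)⁻¹ := by
            rw [conj_pow, hc, map_mul, map_mul, map_inv, map_pow]; group
        _ = (π Y ^ k * π z) ^ k * π z * (π Y ^ k * π z)⁻¹ := by rw [hXz, hconj]
        _ = π c ^ k := by
          rw [show π c = π Y ^ k * π z * (π Y)⁻¹ by rw [hc, map_mul, map_mul, map_inv, map_pow],
            (((Commute.refl (π Y)).pow_left k).inv_right.mul_left hcomm.symm.inv_right).mul_pow,
            inv_pow, mul_inv_rev, mul_assoc _ (π z), mul_inv_cancel_left]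
    rw [hy₁, map_pow, ← conj_pow, hXc, ← pow_mul, ← pow_mul, mul_comm]
  obtain ⟨i₀, hi₀⟩ : D.InE (((X * y₁ * X⁻¹) * (y₁ ^ k)⁻¹ : D.gam) : G) := (QuotientGroup.eq_one_iff _).mp (by
    show π (X * y₁ * X⁻¹ * (y₁ ^ k)⁻¹) = 1
    rw [map_mul, map_mul, map_mul, map_inv, map_inv, map_pow π y₁ k, hXy, mul_inv_cancel])
  -- write it as a conjugate of the power
  obtain ⟨e₀, he₀⟩ : ∃ e₀, X * y₁ * X⁻¹ = e e₀ * y₁ ^ k * (e e₀)⁻¹ := by
    have hk7 : k % 7 ≠ 0 := by rcases hk24 with rfl | rfl <;> norm_num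
    have hactk : D.Act ((y₁ ^ k : D.gam) : G) ((p^[k - 1])^[k]) := Act.pow D hact₁ k
    let ψ : Fin 8 → Fin 8 := fun a => addI a ((p^[k - 1])^[k] a)
    have hψ : ∀ a, e a * y₁ ^ k * (e a)⁻¹ = e (ψ a) * y₁ ^ k := fun a => by
      have h1 : y₁ ^ k * (e a) * (y₁ ^ k)⁻¹ = e ((p^[k - 1])^[k] a) := Subtype.ext (hactk a)
      rw [← he_mul, ← h1, he_inv]; group
    have hψinj : Function.Injective ψ := fun a b hab => by
      refine hinj a b ?_
      have h1 : e a * y₁ ^ k * (e a)⁻¹ = e b * y₁ ^ k * (e b)⁻¹ := by rw [hψ, hψ, hab]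
      obtain ⟨m, hm⟩ : ∃ m, y₁ = (y₁ ^ k) ^ m := by
        rcases hk24 with rfl | rfl
        · exact ⟨4, by rw [← pow_mul, show 2 * 4 = 7 + 1 by norm_num, pow_succ, hy₁7, one_mul]⟩
        · exact ⟨2, by rw [← pow_mul, show 4 * 2 = 7 + 1 by norm_num, pow_succ, hy₁7, one_mul]⟩
      calc e a * y₁ * (e a)⁻¹ = (e a * y₁ ^ k * (e a)⁻¹) ^ m := by rw [conj_pow, ← hm]
        _ = (e b * y₁ ^ k * (e b)⁻¹) ^ m := by rw [h1]
        _ = e b * y₁ * (e b)⁻¹ := by rw [conj_pow, ← hm]
    obtain ⟨a, ha⟩ := Finite.surjective_of_injective hψinj i₀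
    refine ⟨a, ?_⟩
    rw [hψ, ha]
    refine Subtype.ext ?_
    show ((X * y₁ * X⁻¹ : D.gam) : G) = D.hom (sig i₀) * ((y₁ ^ k : D.gam) : G)
    rw [← hi₀, ← Subgroup.coe_mul, inv_mul_cancel_right]
  have hstep : ∀ a, X * (e a * y₁ * (e a)⁻¹) * X⁻¹ =
      (e (addI (actX a) e₀) * y₁ * (e (addI (actX a) e₀))⁻¹) ^ k := fun a => by
    rw [conj_pow, ← he_mul, ← hconjX]
    calc X * (e a * y₁ * (e a)⁻¹) * X⁻¹ = X * e a * X⁻¹ * (X * y₁ * X⁻¹) * (X * e a * X⁻¹)⁻¹ := by group
      _ = _ := by rw [he₀]; group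
  obtain ⟨a, ha⟩ : ∃ a, addI (actX a) e₀ = a := by
    refine fixed_point_affine e₀ ?_
    set N := addI (addI e₀ (actX e₀)) (actX (actX e₀)) with hN
    have hX3 : X ^ 3 = 1 := Subtype.ext (by
      show (D.hom gX) ^ 3 = 1
      rw [← map_pow, gX_order.1, map_one])
    have h0 : e 0 = 1 := Subtype.ext (by show D.hom (sig 0) = 1; rw [sig_zero.1, map_one])
    have hs := hstep 0
    rw [h0, show actX 0 = 0 from rfl, (addI_facts 0 e₀ e₀).1, addI_zero] at hs
    simp only [one_mul, inv_one, mul_one] at hs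
    have hit : ∀ a, X * (e a * y₁ * (e a)⁻¹) ^ k * X⁻¹ =
        (e (addI (actX a) e₀) * y₁ * (e (addI (actX a) e₀))⁻¹) ^ (k * k) := fun a => by
      rw [← conj_pow, hstep, pow_mul]
    have h3 : y₁ = (e N * y₁ * (e N)⁻¹) ^ (k * k * k) := by
      calc y₁ = X ^ 3 * y₁ * (X ^ 3)⁻¹ := by rw [hX3]; group
        _ = X * (X * (X * y₁ * X⁻¹) * X⁻¹) * X⁻¹ := by simp only [pow_succ, pow_zero, one_mul]; group
        _ = X * (e (addI (actX e₀) e₀) * y₁ * (e (addI (actX e₀) e₀))⁻¹) ^ (k * k) * X⁻¹ := by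
          rw [hs, hit]
        _ = (e (addI (actX (addI (actX e₀) e₀)) e₀) * y₁ *
              (e (addI (actX (addI (actX e₀) e₀)) e₀))⁻¹) ^ (k * k * k) := by
          rw [← conj_pow, hstep, ← pow_mul]; ring_nf
        _ = _ := by
          rw [show addI (actX (addI (actX e₀) e₀)) e₀ = N from
            (by decide +kernel : ∀ a : Fin 8, addI (actX (addI (actX a) a)) a =
              addI (addI a (actX a)) (actX (actX a))) e₀]
    have hk3 : k * k * k % 7 = 1 := by rcases hk24 with rfl | rfl <;> norm_num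
    have hN0 : e 0 * y₁ * (e 0)⁻¹ = e N * y₁ * (e N)⁻¹ := by
      rw [h0, one_mul, inv_one, mul_one]
      conv_lhs => rw [h3]
      have hy7 : (e N * y₁ * (e N)⁻¹) ^ 7 = 1 := by rw [conj_pow, hy₁7, mul_one, mul_inv_cancel]
      rw [← Nat.div_add_mod (k * k * k) 7, hk3, pow_succ, pow_mul, hy7, one_pow, one_mul]
    exact (hinj 0 N hN0).symm
  set y : D.gam := e a * y₁ * (e a)⁻¹ with hy
  have hacty : D.Act (y : G) (p^[k - 1]) := by
    have := Act.mul D (Act.mul D (D.act_sig a) hact₁) (Act.inv D (D.act_sig a))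
    rwa [show (id ∘ p^[k - 1]) ∘ invMap id = p^[k - 1] from funext fun i => by
      simp only [Function.comp_apply, id_eq]
      rw [show invMap (id : Fin 8 → Fin 8) i = i from invMap_spec Function.injective_id i]] at this
  refine ⟨y, p^[k - 1], k, by omega, y.2, ?_, ?_, hacty, hfixk, fun i hi => ?_,
    p 1, p 2, p 4, hgood0, if k = 2 then 1 else 5, ?_⟩
  · haveI : Fact (Nat.Prime 7) := ⟨by norm_num⟩
    refine orderOf_eq_prime ?_ fun h1 => hpk ?_
    · show ((y ^ 7 : D.gam) : G) = 1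
      rw [hy, conj_pow, hy₁7, mul_one, mul_inv_cancel, Subgroup.coe_one]
    · have h2 := hacty 4
      rw [h1, one_mul, inv_one, mul_one] at h2
      exact (sig_injective _ _ (D.inj h2)).symm
  · have h := hstep a
    rw [ha] at h
    exact congrArg Subtype.val h
  · obtain ⟨j, hj⟩ := (horb i).resolve_left hi
    rcases hk24 with rfl | rfl
    · exact ⟨j.val, by simpa using hj⟩
    · refine ⟨5 * j.val, ?_⟩
      rw [← Function.iterate_mul, show (4 - 1) * (5 * j.val) = j.val + 7 * (2 * j.val) by ring, hp7]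
      exact hj
  · rw [← hplin]
    rcases hk24 with rfl | rfl
    · simp
    · rw [if_neg (by norm_num), ← Function.iterate_mul, show (4 - 1) * 5 = 1 + 7 * 2 by norm_num, hp7]
      rfl

end WData

/-- The data with its element of order seven. -/
structure Marked (G : Type u) [Group G] extends WData G where
  y : G
  p : Fin 8 → Fin 8
  k : ℕ
  k_lt : k < 7
  y_gam : y ∈ toWData.gam
  y_order : orderOf y = 7
  y_conj : hom gX * y * (hom gX)⁻¹ = y ^ k
  y_act : toWData.Act y p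
  p_fix : ∀ i : Fin 8, p i = i → i = 0
  p_orbit : ∀ i : Fin 8, i ≠ 0 → ∃ j : ℕ, p^[j] 4 = i
  p_good : ∃ q r u : Fin 8, goodB (linI q r u) = true ∧ ∃ m : ℕ, linI q r u = p^[m]

theorem WData.exists_marked [Finite G] (D : WData G) : ∃ M : Marked G, M.toWData = D := by
  obtain ⟨y, p, k, h1, h2, h3, h4, h5, h6, h7, h8⟩ := D.exists_seven
  exact ⟨⟨D, y, p, k, h1, h2, h3, h4, h5, h6, h7, h8⟩, rfl⟩

namespace Marked

variable (M : Marked G)

/-- The centraliser of the subgroup of order eight and of the element of order seven. -/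
def K₀ : Subgroup G where
  carrier := {c | M.toWData.Cent c ∧ Commute c M.y}
  one_mem' := ⟨fun _ => Commute.one_left _, Commute.one_left _⟩
  mul_mem' := fun ha hb => ⟨fun i => (ha.1 i).mul_left (hb.1 i), ha.2.mul_left hb.2⟩
  inv_mem' := fun ha => ⟨fun i => (ha.1 i).inv_left, ha.2.inv_left⟩

theorem hom_commute {c : G} (hc : c ∈ M.K₀) (k : Cen2A5) : Commute c (M.hom k) := by
  obtain ⟨hcE, hcy⟩ := hc
  obtain ⟨-, hX, -⟩ := M.toWData.gX_mem_gam
  obtain ⟨i, hi⟩ := hX c hcE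
  set x := M.hom gX with hx
  -- the commutator centralises the element of order seven
  have h1 : Commute (x * c * x⁻¹) (M.y ^ M.k) := by
    rw [← M.y_conj]
    show x * c * x⁻¹ * (x * M.y * x⁻¹) = x * M.y * x⁻¹ * (x * c * x⁻¹)
    calc x * c * x⁻¹ * (x * M.y * x⁻¹) = x * (c * M.y) * x⁻¹ := by group
      _ = x * (M.y * c) * x⁻¹ := by rw [hcy.eq]
      _ = _ := by group
  have hgen : M.y ∈ zpowers (M.y ^ M.k) := by
    have h : Nat.Coprime M.k 7 := by
      refine Nat.Coprime.symm ((Nat.Prime.coprime_iff_not_dvd (by norm_num)).mpr fun hd => ?_)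
      have : M.k = 0 := Nat.eq_zero_of_dvd_of_lt hd M.k_lt
      have h2 := M.y_conj
      rw [this, pow_zero, conj_eq_one_iff] at h2
      have := M.y_order
      rw [h2, orderOf_one] at this
      norm_num at this
    rw [← M.y_order] at h
    obtain ⟨m, hm⟩ := exists_pow_eq_self_of_coprime h
    exact mem_zpowers_iff.mpr ⟨m, by rw [zpow_natCast]; exact hm⟩
  obtain ⟨m, hm⟩ := mem_zpowers_iff.mp hgen
  have h2 : Commute (x * c * x⁻¹) M.y := hm ▸ h1.zpow_right m
  have h3 : Commute (M.hom (sig i)) M.y := hi ▸ h2.mul_left hcy.inv_left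
  have hi0 : i = 0 := by
    refine M.p_fix i (sig_injective _ _ (M.inj ?_))
    rw [← M.y_act, h3.eq.symm, mul_inv_cancel_right]
  rw [hi0, sig_zero.1, map_one, mul_inv_eq_one] at hi
  have hcx : Commute c x := (mul_inv_eq_iff_eq_mul.mp hi).symm
  obtain ⟨j, hj⟩ := M.toWData.exists_adjust hcE
  have h4 : Commute (M.hom (sig j)) x := by
    have := hcx.mul_left (hj gX).inv_left
    rwa [mul_inv_rev, inv_inv, mul_inv_cancel_left] at this
  have hj4 : ∀ k, Commute (M.hom (sig j)) (M.hom k) := by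
    rcases sig_fixed j (M.inj (by rw [map_mul, map_mul]; exact h4.eq)) with rfl | rfl
    · intro k; rw [sig_zero.1, map_one]; exact Commute.one_left _
    · intro k; rw [sig_zero.2.2.2.2]; exact ((show Commute cz k from (JankoOrder.cz_central k).symm).map M.hom)
  have := (hj4 k).mul_left (hj k)
  rwa [mul_inv_cancel_left] at this

theorem exists_K₀ {c : G} (hc : M.toWData.Cent c) : ∃ i : Fin 8, M.hom (sig i) * c ∈ M.K₀ := by
  obtain ⟨-, hy, -⟩ := M.y_gam
  obtain ⟨a, ha⟩ := hy c hc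
  let ψ : Fin 8 → Fin 8 := fun i => addI (M.p i) i
  have hψ : Function.Injective ψ := fun i j h => by
    have hp : ∀ u v, M.p (addI u v) = addI (M.p u) (M.p v) := fun u v => by
      refine sig_injective _ _ (M.inj ?_)
      rw [← M.y_act, ← sig_mul, ← sig_mul, map_mul, map_mul, ← M.y_act, ← M.y_act]
      group
    have e : M.p (addI i j) = addI i j := by
      rw [hp]
      exact (by decide +kernel : ∀ pi pj i j : Fin 8, addI pi i = addI pj j → addI pi pj = addI i j)
        _ _ _ _ h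
    have := M.p_fix _ e
    exact addI_cancel i j j (by rw [this, (addI_facts j j j).2.2])
  obtain ⟨i, hi⟩ := Finite.surjective_of_injective hψ a
  refine ⟨i, fun j => ((show Commute (sig i) (sig j) from WData.sig_comm i j).map M.hom).mul_left (hc j), ?_⟩
  show Commute (M.hom (sig i) * c) M.y
  refine (mul_inv_eq_iff_eq_mul.mp ?_ : M.y * (M.hom (sig i) * c) = M.hom (sig i) * c * M.y).symm
  calc M.y * (M.hom (sig i) * c) * M.y⁻¹ = M.y * M.hom (sig i) * M.y⁻¹ * (M.y * c * M.y⁻¹ * c⁻¹) * c := by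
        group
    _ = M.hom (sig (M.p i)) * M.hom (sig a) * c := by rw [M.y_act, ha]
    _ = M.hom (sig i) * c := by
      rw [← map_mul, sig_mul, ← hi,
        (by decide +kernel : ∀ u v : Fin 8, addI u (addI u v) = v) (M.p i) i]

theorem presV_of_act {d : G} {S : Fin 8 → Fin 8} (hd : d * M.toWData.t = M.toWData.t * d)
    (hS : M.toWData.Act d S) : presV S = true := by
  refine presV_iff.mpr fun i hi => ?_
  obtain ⟨a, b, hab⟩ := sig_commutator i hi
  obtain ⟨a', ha'⟩ := M.toWData.range_normal hd a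
  obtain ⟨b', hb'⟩ := M.toWData.range_normal hd b
  have h1 : sig (S i) = a' * b' * a'⁻¹ * b'⁻¹ := M.inj (by
    rw [← hS, ← hab, map_mul, map_mul, map_mul, map_inv, map_inv, map_mul, map_mul, map_mul, map_inv,
      map_inv, ha', hb']
    group)
  have h2 : (sig (S i)).1 = 1 := by
    rw [h1]
    show a'.1 * b'.1 * a'.1⁻¹ * b'.1⁻¹ = 1
    rw [mul_comm a'.1 b'.1]; group
  refine (sig_fst _ h2).resolve_left fun e => ?_
  have : i = 0 := WData.Act.injective M.toWData hS (e.trans (WData.Act.map_zero M.toWData hS).symm)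
  rcases hi with rfl | rfl | rfl <;> exact absurd this (by decide)

/-- The involution centraliser. -/
theorem cent_cases {c : G} (hc : c * M.toWData.t = M.toWData.t * c) :
    ∃ (k : Cen2A5) (d : G), d ∈ M.K₀ ∧ c = M.hom k * d := by
  classical
  obtain ⟨z0, z1, z2, z3, z4⟩ := sig_zero
  obtain ⟨P, hP⟩ := M.toWData.range_normal hc gA
  obtain ⟨Q, hQ⟩ := M.toWData.range_normal hc gC
  obtain ⟨n1, n2, n3, n4, n5, n6, n7, n8⟩ := basis_distinct
  obtain ⟨f1, f2, f3, f4, -, -, -, f5, f6, -⟩ := gens_facts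
  let φ : G →* G := (MulAut.conj c).toMonoidHom
  have hφinj : Function.Injective φ := (MulAut.conj c).injective
  have hφt : φ M.toWData.t = M.toWData.t := mul_inv_eq_iff_eq_mul.mpr hc
  have hPQ : ∀ {g : Cen2A5} {g' : Cen2A5}, M.hom g' = φ (M.hom g) → ∀ {l l' : Cen2A5},
      M.hom l' = φ (M.hom l) → g' = l' → g = l := fun h1 _ _ h2 e =>
    M.inj (hφinj (by rw [← h1, ← h2, e]))
  have h1' : M.hom (1 : Cen2A5) = φ (M.hom 1) := by simp
  have hz' : M.hom cz = φ (M.hom cz) := hφt.symm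
  obtain ⟨k, ⟨i, hi⟩, j, hj⟩ := pair_conj P
    (M.inj (by
      rw [map_mul, hP]
      calc c * M.hom gA * c⁻¹ * (c * M.hom gA * c⁻¹) = c * (M.hom gA * M.hom gA) * c⁻¹ := by group
        _ = M.hom 1 := by rw [← map_mul, f1, map_one]; group))
    (fun e => f2 (hPQ hP h1' e)) (fun e => f5 (hPQ hP hz' e)) Q
    (M.inj (by
      rw [map_mul, hQ]
      calc c * M.hom gC * c⁻¹ * (c * M.hom gC * c⁻¹) = c * (M.hom gC * M.hom gC) * c⁻¹ := by group
        _ = M.hom 1 := by rw [← map_mul, f3, map_one]; group))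
    (fun e => f4 (hPQ hQ h1' e)) (fun e => n5.symm (hPQ hQ hz' e))
    (M.inj (by
      rw [map_mul, map_mul, hP, hQ, ← z1, ← z2]
      calc c * M.hom (sig 1) * c⁻¹ * (c * M.hom (sig 2) * c⁻¹) = c * (M.hom (sig 1) * M.hom (sig 2)) * c⁻¹ := by
            group
        _ = c * (M.hom (sig 2) * M.hom (sig 1)) * c⁻¹ := by rw [← map_mul, ← map_mul, WData.sig_comm]
        _ = _ := by group))
    (fun e => n2 (hPQ hQ hP e))
    (fun e => by
      have h : gC = cz * gA := hPQ hQ (g := gC) (l := cz * gA) (l' := cz * P)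
        (by rw [map_mul, map_mul, map_mul φ, ← hz', hP]; rfl) e
      exact absurd h (by decide +kernel))
  set d := M.hom k * c with hd
  have hdt : d * M.toWData.t = M.toWData.t * d :=
    ((show Commute (M.hom k) M.toWData.t from M.toWData.comm_t k).mul_left hc).eq
  have hbase : ∀ g g' : Cen2A5, M.hom g' = φ (M.hom g) → d * M.hom g * d⁻¹ = M.hom (k * g' * k⁻¹) :=
    fun g g' h => by
      rw [map_mul, map_mul, map_inv, h, hd]
      show _ = M.hom k * (c * M.hom g * c⁻¹) * (M.hom k)⁻¹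
      group
  have hadd : ∀ a b a' b' : Fin 8, d * M.hom (sig a) * d⁻¹ = M.hom (sig a') →
      d * M.hom (sig b) * d⁻¹ = M.hom (sig b') →
      d * M.hom (sig (addI a b)) * d⁻¹ = M.hom (sig (addI a' b')) := fun a b a' b' e1 e2 => by
    rw [← sig_mul, ← sig_mul, map_mul, map_mul, ← e1, ← e2]; group
  have hS : M.toWData.Act d (linI i j 4) := by
    intro a
    have e0 : d * M.hom (sig 0) * d⁻¹ = M.hom (sig 0) := by rw [z0, map_one]; group
    have hb : ∀ (P : Prop) [Decidable P] (b v : Fin 8), d * M.hom (sig b) * d⁻¹ = M.hom (sig v) →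
        d * M.hom (sig (if P then b else 0)) * d⁻¹ = M.hom (sig (if P then v else 0)) :=
      fun P _ b v e => by split_ifs <;> assumption
    conv_lhs => rw [linI_split a]
    unfold linI
    exact hadd _ _ _ _ (hadd _ _ _ _ (hb _ _ _ (by rw [z1, hbase _ _ hP, hi])) (hb _ _ _ (by rw [z2, hbase _ _ hQ, hj])))
      (hb _ _ _ (by rw [z4]; exact mul_inv_eq_iff_eq_mul.mpr hdt))
  have finish : ∀ g : Cen2A5, M.toWData.Cent (M.hom g * d) →
      ∃ (k : Cen2A5) (d : G), d ∈ M.K₀ ∧ c = M.hom k * d := by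
    intro g hg
    obtain ⟨a, ha⟩ := M.exists_K₀ hg
    refine ⟨(sig a * (g * k))⁻¹, _, ha, ?_⟩
    rw [map_inv, map_mul, map_mul, hd]; group
  rcases stab_cases i j (injB_iff.mpr (WData.Act.injective M.toWData hS)) (M.presV_of_act hdt hS) with
    h | h | h | h
  · rw [eqMap_iff] at h
    exact finish 1 (by rw [map_one, one_mul]; exact M.toWData.cent_of_act (h ▸ hS))
  · rw [eqMap_iff] at h
    refine finish (gX * gX) (M.toWData.cent_of_act ?_)
    have := WData.Act.mul M.toWData (WData.Act.mul M.toWData M.toWData.act_gX M.toWData.act_gX) (h ▸ hS)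
    rw [map_mul]
    rwa [show (actX ∘ actX) ∘ actX = id from funext (by decide +kernel)] at this
  · rw [eqMap_iff] at h
    refine finish gX (M.toWData.cent_of_act ?_)
    have := WData.Act.mul M.toWData M.toWData.act_gX (h ▸ hS)
    rwa [show actX ∘ actX^[2] = id from funext (by decide +kernel)] at this
  · exfalso
    obtain ⟨q, r, u, hgood, m, hm⟩ := M.p_good
    obtain ⟨w, -, hw⟩ := List.any_eq_true.mp (h q r u hgood)
    simp only [Bool.and_eq_true, beq_iff_eq, Bool.not_eq_true'] at hw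
    obtain ⟨hw4, hwV⟩ := hw
    let g : Fin 3 → G := fun a => if a = 0 then M.y ^ m else d
    have hg : ∀ a, M.toWData.Act (g a) (lettersTwo (linI q r u) (linI i j 4) a) := by
      intro a
      have h0 : M.toWData.Act (M.y ^ m) (linI q r u) := hm ▸ WData.Act.pow M.toWData M.y_act m
      fin_cases a
      · exact h0
      · exact hS
      · exact hS
    have hact := M.toWData.evalMap_act hg w
    have hfix := hact 4
    rw [hw4, z4] at hfix
    have := M.presV_of_act (mul_inv_eq_iff_eq_mul.mp hfix) hact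
    rw [hwV] at this
    exact Bool.false_ne_true this

/-- Fusion inside a subgroup containing the image and the element of order seven. -/
theorem conj_in {H : Subgroup G} (hW : ∀ k, M.hom k ∈ H) (hy : M.y ∈ H) {k : Cen2A5} (hk : k * k = 1)
    (hk1 : k ≠ 1) : ∃ h ∈ H, h * M.toWData.t * h⁻¹ = M.hom k := by
  obtain ⟨g, i, hg⟩ := invol_conj_sig k hk hk1
  have hi : i ≠ 0 := fun e => hk1 (by
    rw [e, sig_zero.1] at hg
    exact conj_eq_one_iff.mp hg)
  obtain ⟨j, hj⟩ := M.p_orbit i hi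
  refine ⟨(M.hom g)⁻¹ * M.y ^ j, mul_mem (inv_mem (hW g)) (pow_mem hy j), ?_⟩
  have h1 := WData.Act.pow M.toWData M.y_act j 4
  rw [hj, sig_zero.2.2.2.2] at h1
  calc (M.hom g)⁻¹ * M.y ^ j * M.toWData.t * ((M.hom g)⁻¹ * M.y ^ j)⁻¹
      = (M.hom g)⁻¹ * (M.y ^ j * M.hom cz * (M.y ^ j)⁻¹) * M.hom g := by group
    _ = M.hom k := by rw [h1, ← hg, map_mul, map_mul, map_inv]; group

end Marked

end Cfsg.Agent.Lib.JankoUnique.Weak
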